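import Groth.Agent.GrpField.Dimension
import Groth.Agent.Unibranch.FibreDims
import Groth.Agent.Unibranch.LiftDim
import Mathlib.AlgebraicGeometry.Morphisms.UniversallyOpen
import Groth.Agent.S1333
import Mathlib.CategoryTheory.Monoidal.Cartesian.Over
import Mathlib.CategoryTheory.Monoidal.Cartesian.Grp

/-!
# The fibre dimension of a flat group scheme is locally constant
-/

universe u

open CategoryTheory CategoryTheory.Limits MonoidalCategory CartesianMonoidalCategory MonObj AlgebraicGeometry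
open Groth.Agent.Unibranch

set_option backward.isDefEq.respectTransparency false

namespace Groth.Agent.GrpDim

variable {S : Scheme.{u}} (G : Over S) [GrpObj G]

/-- an open meeting a fibre has the dimension of the fibre there -/
theorem dim_inter [LocallyOfFiniteType G.hom] (U : G.left.Opens) {x : G.left} (hx : x ∈ U) :
    topologicalKrullDim ↥((U : Set G.left) ∩ G.hom ⁻¹' {G.hom x}) =
      topologicalKrullDim ↥(G.hom ⁻¹' {G.hom x}) := by
  let s := G.hom x
  let : GrpObj (Over.mk G.hom) := inferInstanceAs (GrpObj G)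
  let F : Over (Spec (CommRingCat.of (S.residueField s))) :=
    Over.mk (pullback.snd G.hom (S.fromSpecResidueField s))
  let : GrpObj F := Over.grpObjMkPullbackSnd
  have : LocallyOfFiniteType F.hom :=
    inferInstanceAs (LocallyOfFiniteType (pullback.snd G.hom (S.fromSpecResidueField s)))
  let j := G.hom.fiberι s
  obtain ⟨a, ha⟩ : x ∈ Set.range j := (G.hom.range_fiberι s).ge rfl
  have h : topologicalKrullDim ↥(j ⁻¹' (U : Set G.left)) = topologicalKrullDim ↥(G.hom.fiber s) :=
    (GrpField.equidimensional F).2 a _ (U.2.preimage j.continuous) (show j a ∈ U from ha ▸ hx)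
  have himg : j '' (j ⁻¹' (U : Set G.left)) = (U : Set G.left) ∩ G.hom ⁻¹' {s} := by
    rw [Set.image_preimage_eq_inter_range, G.hom.range_fiberι]
  have h1 := IsHomeomorph.topologicalKrullDim_eq _
    ((j.isEmbedding.homeomorphImage (j ⁻¹' (U : Set G.left))).trans (Homeomorph.setCongr himg)).isHomeomorph
  have h2 := IsHomeomorph.topologicalKrullDim_eq _ (G.hom.fiberHomeo s).isHomeomorph
  rw [← h1, h, h2]

/-- the neutral section -/
theorem hom_section (t : S) : G.hom (η[G].left t) = t := by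
  have h : η[G].left ≫ G.hom = 𝟙 S := Over.w η[G]
  rw [← Scheme.Hom.comp_apply, h]
  rfl

/-- affine charts `W → V` with the neutral section in `W`, computing all fibre dimensions over `V` -/
theorem exists_model [LocallyOfFiniteType G.hom] (y : S) :
    ∃ (V : S.Opens) (W : G.left.Opens) (hWV : W ≤ G.hom ⁻¹ᵁ V), IsAffineOpen V ∧ IsAffineOpen W ∧
      y ∈ V ∧ (∀ t ∈ V, η[G].left t ∈ W) ∧
      ∀ t : V, topologicalKrullDim ↥((G.hom.resLE V W hWV).fiber t) =
        topologicalKrullDim ↥(G.hom ⁻¹' {(t : S)}) := by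
  let e : S ⟶ G.left := η[G].left
  have he : ∀ t, G.hom (e t) = t := hom_section G
  obtain ⟨V, hV, hyV, -⟩ := exists_isAffineOpen_mem_and_subset (X := S) (x := y) (U := ⊤) trivial
  obtain ⟨W, hW, heW, hWV⟩ := exists_isAffineOpen_mem_and_subset (X := G.left) (x := e y)
    (U := G.hom ⁻¹ᵁ V) (show G.hom (e y) ∈ V by rw [he]; exact hyV)
  obtain ⟨V', hV', hyV', hV'le⟩ := exists_isAffineOpen_mem_and_subset (X := S) (x := y)
    (U := V ⊓ e ⁻¹ᵁ W) ⟨hyV, heW⟩
  let W' : G.left.Opens := W ⊓ G.hom ⁻¹ᵁ V'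
  have hW' : IsAffineOpen W' := by
    have h1 : IsAffineOpen (G.hom.resLE V W hWV ⁻¹ᵁ (V.ι ⁻¹ᵁ V')) := by
      have : IsAffine (W : Scheme.{u}) := hW
      have : IsAffine (V : Scheme.{u}) := hV
      exact (hV'.preimage_of_isOpenImmersion V.ι
        (by rw [Scheme.Opens.opensRange_ι]; exact fun w hw => (hV'le hw).1)).preimage _
    have h2 := h1.image_of_isOpenImmersion W.ι
    rw [← Scheme.Hom.comp_preimage, Scheme.Hom.resLE_comp_ι,
      Scheme.Hom.comp_preimage, Scheme.Hom.image_preimage_eq_opensRange_inf,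
      Scheme.Opens.opensRange_ι] at h2
    exact h2
  have heW' : ∀ t ∈ V', e t ∈ W' := fun t ht =>
    ⟨(hV'le ht).2, show G.hom (e t) ∈ V' by rw [he]; exact ht⟩
  refine ⟨V', W', inf_le_right, hV', hW', hyV', heW', fun t => ?_⟩
  set f' : (W' : Scheme.{u}) ⟶ (V' : Scheme.{u}) := G.hom.resLE V' W' inf_le_right with hf'
  have himg : W'.ι '' (f' ⁻¹' {t}) = (W' : Set G.left) ∩ G.hom ⁻¹' {(t : S)} := by
    ext g
    constructor
    · rintro ⟨w, hw, rfl⟩
      refine ⟨w.2, ?_⟩
      show G.hom (W'.ι w) = (t : S)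
      rw [← Scheme.Hom.comp_apply, ← Scheme.Hom.resLE_comp_ι G.hom inf_le_right]
      exact congrArg V'.ι hw
    · rintro ⟨hg, hgt⟩
      refine ⟨⟨g, hg⟩, ?_, rfl⟩
      refine V'.ι.isOpenEmbedding.injective ?_
      have h : V'.ι (f' ⟨g, hg⟩) = G.hom g := by
        rw [← Scheme.Hom.comp_apply, Scheme.Hom.resLE_comp_ι]; rfl
      exact h.trans hgt
  rw [IsHomeomorph.topologicalKrullDim_eq _ (((f'.fiberHomeo t).trans
    (W'.ι.isEmbedding.homeomorphImage _)).trans (Homeomorph.setCongr himg)).isHomeomorph]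
  have := dim_inter G W' (heW' t t.2)
  rwa [he] at this

/-- fibre dimensions are natural numbers, and do not go up nearby -/
theorem exists_dim_le [LocallyOfFiniteType G.hom] (y : S) :
    ∃ m : ℕ, topologicalKrullDim ↥(G.hom ⁻¹' {y}) = (m : WithBot ℕ∞) ∧ ∃ O : S.Opens, y ∈ O ∧
      ∀ t ∈ O, topologicalKrullDim ↥(G.hom ⁻¹' {t}) ≤ (m : WithBot ℕ∞) := by
  let e : S ⟶ G.left := η[G].left
  have he : ∀ t, G.hom (e t) = t := hom_section G
  obtain ⟨V', W', hle', hV', hW', hyV', heW', hdim⟩ := exists_model G y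
  let f' := G.hom.resLE V' W' hle'
  have : IsAffine (W' : Scheme.{u}) := hW'
  have : IsAffine (V' : Scheme.{u}) := hV'
  have : IsAffineHom f' := isAffineHom_of_isAffine f'
  have : LocallyOfFiniteType f' := inferInstance
  have : Nonempty ↥(f'.fiber ⟨y, hyV'⟩) := by
    obtain ⟨a, -⟩ : (⟨e y, heW' y hyV'⟩ : W') ∈ Set.range (f'.fiberι ⟨y, hyV'⟩) := by
      rw [f'.range_fiberι]
      refine V'.ι.isOpenEmbedding.injective ?_
      show V'.ι (f' ⟨e y, _⟩) = y
      rw [← Scheme.Hom.comp_apply, Scheme.Hom.resLE_comp_ι]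
      exact he y
    exact ⟨a⟩
  obtain ⟨m, hm⟩ : ∃ m : ℕ, topologicalKrullDim ↥(G.hom ⁻¹' {y}) = (m : WithBot ℕ∞) := by
    rcases exists_natCast_dim_fiber f' ⟨y, hyV'⟩ with h | ⟨m, hm⟩
    · exact (h.false (Classical.arbitrary _)).elim
    · exact ⟨m, (hdim ⟨y, hyV'⟩).symm.trans hm⟩
  have hWy : ChainsLE G.hom W' (G.hom (e y)) m := by
    rw [he]
    refine (topologicalKrullDim_inter_le_iff G.hom (W'.2.isLocallyClosed) y).1 ?_
    exact ((Topology.IsEmbedding.inclusion Set.inter_subset_right).isInducing.topologicalKrullDim_le).trans hm.le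
  obtain ⟨U, hyU, -, hU⟩ := exists_opens_chainsLE G.hom (heW' y hyV') hWy
  refine ⟨m, hm, e ⁻¹ᵁ U, hyU, fun t ht => ?_⟩
  have h1 := dim_inter G U (show e t ∈ U from ht)
  rw [he] at h1
  rw [← h1]
  exact (topologicalKrullDim_inter_le_iff G.hom U.2.isLocallyClosed t).2 (hU t)

/-- the fibre dimension is upper semicontinuous -/
theorem upperSemicontinuous_dim [LocallyOfFiniteType G.hom] :
    UpperSemicontinuous (fun s : S => topologicalKrullDim ↥(G.hom ⁻¹' {s})) := by
  intro x z hz
  obtain ⟨m, hm, O, hxO, hO⟩ := exists_dim_le G x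
  filter_upwards [O.2.mem_nhds hxO] with t ht
  exact lt_of_le_of_lt (hO t ht) (hm ▸ hz)

/-- finitely many values, constructible level sets, near each point -/
theorem finite_isConstructible_dim [LocallyOfFinitePresentation G.hom] (s : S) :
    ∃ V : S.Opens, s ∈ V ∧
      ((fun t : S => topologicalKrullDim ↥(G.hom ⁻¹' {t})) '' (V : Set S)).Finite ∧
      ∀ d : WithBot ℕ∞,
        Topology.IsConstructible {t : V | topologicalKrullDim ↥(G.hom ⁻¹' {(t : S)}) = d} := by
  obtain ⟨V', W', hle', hV', hW', hyV', -, hdim⟩ := exists_model G s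
  let f' := G.hom.resLE V' W' hle'
  have : IsAffine (W' : Scheme.{u}) := hW'
  have : IsAffine (V' : Scheme.{u}) := hV'
  have : IsAffineHom f' := isAffineHom_of_isAffine f'
  refine ⟨V', hyV', ?_, fun d => ?_⟩
  · choose m hm O hxO hO using exists_dim_le G
    obtain ⟨T, hT⟩ := hV'.isCompact.elim_finite_subcover (fun t => (O t : Set S)) (fun t => (O t).2)
      fun t _ => Set.mem_iUnion.2 ⟨t, hxO t⟩
    refine ((T.finite_toSet.biUnion fun t _ => (Set.finite_Iic (m t)).image
      (fun n : ℕ => (n : WithBot ℕ∞)))).subset ?_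
    rintro _ ⟨a, ha, rfl⟩
    obtain ⟨t, ht, hat⟩ := Set.mem_iUnion₂.1 (hT ha)
    refine Set.mem_biUnion ht ⟨m a, ?_, (hm a).symm⟩
    have := hO t a hat
    rw [hm a] at this
    exact_mod_cast this
  · have h := (S1333.result f' d).isConstructible
    have heq : {t : V' | topologicalKrullDim ↥(G.hom ⁻¹' {(t : S)}) = d} =
        {t | topologicalKrullDim ↥(f'.fiber t) = d} := Set.ext fun t => by
      show _ = d ↔ _ = d
      rw [hdim t]
    rw [heq]
    exact h

/-- **Local constancy of the fibre dimension.** -/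
theorem isLocallyConstant_dim [Flat G.hom] [LocallyOfFinitePresentation G.hom] :
    IsLocallyConstant (fun s : S => topologicalKrullDim ↥(G.hom ⁻¹' {s})) := by
  rw [IsLocallyConstant.iff_exists_open]
  intro y
  have hchain : ∀ (t : S) (k : ℕ),
      (k : WithBot ℕ∞) ≤ topologicalKrullDim ↥(G.hom ⁻¹' {t}) ↔ HasChain G.hom Set.univ t k := by
    intro t k
    rw [← natCast_le_topologicalKrullDim_inter_iff G.hom isClosed_univ.isLocallyClosed t,
      IsHomeomorph.topologicalKrullDim_eq _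
        (Homeomorph.setCongr (Set.univ_inter (G.hom ⁻¹' {t}))).isHomeomorph]
  -- generisation does not lower the dimension
  have hge : ∀ {a b : S}, a ⤳ b →
      topologicalKrullDim ↥(G.hom ⁻¹' {b}) ≤ topologicalKrullDim ↥(G.hom ⁻¹' {a}) := by
    intro a b hab
    refine Unibranch.le_of_forall_natCast_le fun k hk => (hchain a k).2 ?_
    obtain ⟨c, hc, hch⟩ := (hchain b k).1 hk
    -- the first member of a chain specialises to the others
    have hz : c 0 ⤳ c 0 := specializes_rfl
    have hfc : G.hom (c 0) = b := (hc 0).2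
    have hu : EGA43.IsUnivOpenAt G.hom (c 0) := fun Y' g x' _ U hU =>
      (pullback.snd G.hom g).isOpenMap.image_mem_nhds hU
    obtain ⟨ζ, hζ, hfζ, hζc⟩ := exists_hasChain_of_isUnivOpenAt G.hom hu
      (by rw [hfc]; exact hab : a ⤳ G.hom (c 0))
    have hmem : ∀ i, c i ∈ closure {c 0} := by
      intro i
      induction i using Fin.induction with
      | zero => exact subset_closure rfl
      | succ i ih =>
        exact specializes_iff_mem_closure.1 ((specializes_iff_mem_closure.2 ih).trans (hch i).1)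
    exact (hζc k (hfc ▸ ⟨c, fun i => ⟨hmem i, (hc i).2⟩, hch⟩)).mono (Set.subset_univ _)
  obtain ⟨m, hm, U, hyU, hU⟩ := exists_dim_le G y
  obtain ⟨V', W', hle', hV', hW', hyV', -, hdim⟩ := exists_model G y
  let f' := G.hom.resLE V' W' hle'
  have : IsAffine (W' : Scheme.{u}) := hW'
  have : IsAffine (V' : Scheme.{u}) := hV'
  have : IsAffineHom f' := isAffineHom_of_isAffine f'
  let L : Set V' := {t | topologicalKrullDim ↥(f'.fiber t) = (m : WithBot ℕ∞)}
  have hL : L ∈ nhds (⟨y, hyV'⟩ : V') := by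
    refine mem_nhds_of_isLocallyConstructible (S1333.result f' _) fun t ht => ?_
    have ht' : V'.ι t ⤳ y := ht.map V'.ι.continuous
    show topologicalKrullDim ↥(f'.fiber t) = _
    rw [hdim]
    exact le_antisymm (hU _ (ht'.mem_open U.2 hyU)) (hm.ge.trans (hge ht'))
  obtain ⟨O, hOL, hO, hyO⟩ := mem_nhds_iff.1 hL
  refine ⟨V'.ι '' O, V'.ι.isOpenEmbedding.isOpenMap O hO, ⟨_, hyO, rfl⟩, ?_⟩
  rintro _ ⟨t, ht, rfl⟩
  show topologicalKrullDim ↥(G.hom ⁻¹' {V'.ι t}) = topologicalKrullDim ↥(G.hom ⁻¹' {y})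
  rw [hm, ← show topologicalKrullDim ↥(f'.fiber t) = (m : WithBot ℕ∞) from hOL ht, hdim t]
  rfl

end Groth.Agent.GrpDim
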