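import Groth.Agent.GrpDim.Translate
import Groth.Prelude.Def_ProCons
import Mathlib.AlgebraicGeometry.Morphisms.QuasiSeparated
import Groth.Agent.LimDesc.FPCancel

/-!
# Constructibility of the neutral components
-/

universe u

open CategoryTheory CategoryTheory.Limits MonoidalCategory CartesianMonoidalCategory MonObj AlgebraicGeometry
open Groth.Agent.Unibranch Topology
open scoped CategoryTheory.Obj

set_option backward.isDefEq.respectTransparency false

namespace Groth.Agent.GrpDim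

variable {S : Scheme.{u}} (G : Over S) [GrpObj G]

theorem neutralSet_iff (v : G.left) : v ∈ SGA3x.neutralSet G ↔ v ∈ comp0 G (G.hom v) := by
  rw [← neutralSet_inter]
  exact ⟨fun h => ⟨h, rfl⟩, fun h => h.1⟩

/-- multiplication maps a neutral component over a neutral point into the neutral component -/
theorem mul_mem_comp0 [LocallyOfFiniteType G.hom] {z : (G ⊗ G).left}
    (h1 : (fst G G).left z ∈ comp0 G (G.hom ((fst G G).left z)))
    (h2 : (snd G G).left z ∈ comp0 G (G.hom ((snd G G).left z))) :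
    μ[G].left z ∈ comp0 G (G.hom (μ[G].left z)) := by
  let G' := (Over.pullback G.hom).obj G
  let y := (snd G G).left z
  let t : G ⟶ G ⊗ G := lift (toUnit G ≫ η[G]) (𝟙 G)
  have hs : ∀ w : (G ⊗ G).left, G.hom (μ[G].left w) = G.hom ((snd G G).left w) := fun w => by
    rw [← Scheme.Hom.comp_apply, ← Scheme.Hom.comp_apply, Over.w, Over.w (snd G G)]
  have hty : (snd G G).left (t.left y) = y := by
    rw [← Scheme.Hom.comp_apply, ← Over.comp_left, lift_snd]
    rfl
  have hmy : μ[G].left (t.left y) = y := by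
    rw [← Scheme.Hom.comp_apply, ← Over.comp_left,
      show t ≫ μ[G] = (toUnit G ≫ η[G]) * 𝟙 G from rfl, ← Hom.one_def, _root_.one_mul]
    rfl
  have hfy : (fst G G).left (t.left y) = η[G].left (G.hom y) := by
    rw [← Scheme.Hom.comp_apply, ← Over.comp_left, lift_fst, Over.comp_left, Scheme.Hom.comp_apply]
    rfl
  have ht0 : t.left y ∈ comp0 G' y := by
    have h := (neutralOver_eq G (X := G) (t.left y)).1 (by
      show (fst G G).left (t.left y) ∈ comp0 G (G.hom ((fst G G).left (t.left y)))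
      rw [hfy, hom_section]
      exact mem_connectedComponentIn (hom_section G _))
    rwa [show G'.hom (t.left y) = y from hty] at h
  have hz0 : z ∈ comp0 G' y := (neutralOver_eq G (X := G) z).1 h1
  have hsub : μ[G].left '' comp0 G' y ⊆ G.hom.base ⁻¹' {G.hom y} := by
    rintro _ ⟨v, hv, rfl⟩
    have hv₀ : v ∈ G'.hom.base ⁻¹' {y} := connectedComponentIn_subset _ _ hv
    have hv' : (snd G G).left v = y := hv₀
    exact (hs v).trans (congrArg G.hom hv')
  have hconn := (isPreconnected_connectedComponentIn (F := G'.hom.base ⁻¹' {y})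
    (x := η[G'].left y)).image _ μ[G].left.continuous.continuousOn
  have key := hconn.subset_connectedComponentIn ⟨_, ht0, hmy⟩ hsub
  rw [hs]
  show μ[G].left z ∈ connectedComponentIn _ (η[G].left (G.hom y))
  rw [connectedComponentIn_eq h2]
  exact key ⟨z, hz0, rfl⟩

/-- left division by a neutral point preserves the neutral component -/
theorem snd_mem_comp0 [LocallyOfFiniteType G.hom] {w : (G ⊗ G).left}
    (h1 : (fst G G).left w ∈ comp0 G (G.hom ((fst G G).left w)))
    (h2 : μ[G].left w ∈ comp0 G (G.hom (μ[G].left w))) :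
    (snd G G).left w ∈ comp0 G (G.hom ((snd G G).left w)) := by
  let d : G ⊗ G ⟶ G ⊗ G := lift (fst G G)⁻¹ μ[G]
  have hd : d ≫ μ[G] = snd G G := by
    rw [show d ≫ μ[G] = (fst G G)⁻¹ * μ[G] from rfl,
      show μ[G] = fst G G * snd G G by rw [Hom.mul_def]; simp, inv_mul_cancel_left]
  have hd1 : (fst G G).left (d.left w) = (GrpObj.inv (X := G)).left ((fst G G).left w) := by
    rw [← Scheme.Hom.comp_apply, ← Over.comp_left, show d ≫ fst G G = (fst G G)⁻¹ from lift_fst _ _,
      Hom.inv_def, Over.comp_left, Scheme.Hom.comp_apply]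
  have hd2 : (snd G G).left (d.left w) = μ[G].left w := by
    rw [← Scheme.Hom.comp_apply, ← Over.comp_left, show d ≫ snd G G = μ[G] from lift_snd _ _]
  have hdw : μ[G].left (d.left w) = (snd G G).left w := by
    rw [← Scheme.Hom.comp_apply, ← Over.comp_left, hd]
  rw [← hdw]
  refine mul_mem_comp0 G ?_ (by rw [hd2]; exact h2)
  have h3 : G.hom ((GrpObj.inv (X := G)).left ((fst G G).left w)) = G.hom ((fst G G).left w) := by
    rw [← Scheme.Hom.comp_apply, Over.w (GrpObj.inv (X := G))]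
  rw [hd1, h3]
  exact inv_mem_comp0 G h1

/-- every neutral point is a quotient of neutral points close to the section -/
theorem exists_div [LocallyOfFiniteType G.hom] (W : G.left.Opens) {x : G.left}
    (heW : η[G].left (G.hom x) ∈ W) (hx : x ∈ comp0 G (G.hom x)) :
    ∃ w : (G ⊗ G).left, (snd G G).left w = x ∧
      (fst G G).left w ∈ W ∧ (fst G G).left w ∈ comp0 G (G.hom ((fst G G).left w)) ∧
      μ[G].left w ∈ W ∧ μ[G].left w ∈ comp0 G (G.hom (μ[G].left w)) := by
  let G' := (Over.pullback G.hom).obj G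
  have : LocallyOfFiniteType G'.hom := inferInstanceAs (LocallyOfFiniteType (pullback.snd G.hom G.hom))
  obtain ⟨m, hm, -⟩ := exists_dim_le G' x
  obtain ⟨o, ho, hox, hC, -, -⟩ := exists_generic G' x hm
  have hspec : ∀ p ∈ comp0 G' x, o ⤳ p := fun p hp => specializes_iff_mem_closure.2 (hC.le hp).1
  let d : G ⟶ G ⊗ G := lift (𝟙 G)⁻¹ (𝟙 G)
  have hd : d ≫ μ[G] = toUnit G ≫ η[G] := by
    rw [show d ≫ μ[G] = (𝟙 G)⁻¹ * 𝟙 G from rfl, inv_mul_cancel, Hom.one_def]
  have hdx : μ[G].left (d.left x) = η[G].left (G.hom x) := by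
    rw [← Scheme.Hom.comp_apply, ← Over.comp_left, hd, Over.comp_left, Scheme.Hom.comp_apply]
    rfl
  have hd2 : (snd G G).left (d.left x) = x := by
    rw [← Scheme.Hom.comp_apply, ← Over.comp_left, lift_snd]
    rfl
  have hd1 : (fst G G).left (d.left x) = (GrpObj.inv (X := G)).left x := by
    rw [← Scheme.Hom.comp_apply, ← Over.comp_left, lift_fst, Hom.inv_def, Category.id_comp]
  have h3 : G.hom ((GrpObj.inv (X := G)).left x) = G.hom x := by
    rw [← Scheme.Hom.comp_apply, Over.w (GrpObj.inv (X := G))]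
  have hdo : d.left x ∈ comp0 G' x := by
    have h := (neutralOver_eq G (X := G) (d.left x)).1 (by
      show (fst G G).left (d.left x) ∈ comp0 G (G.hom ((fst G G).left (d.left x)))
      rw [hd1, h3]
      exact inv_mem_comp0 G hx)
    rwa [show G'.hom (d.left x) = x from hd2] at h
  have hfo : (fst G G).left o ∈ comp0 G (G.hom ((fst G G).left o)) := by
    refine (neutralOver_eq G (X := G) o).2 ?_
    show o ∈ comp0 G' (G'.hom o)
    rw [hox]
    exact ho
  refine ⟨o, hox, ?_, hfo, ?_, mul_mem_comp0 G hfo ?_⟩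
  · have h1 := (hspec _ (mem_connectedComponentIn (hom_section G' x))).map
      (pullback.fst G.hom G.hom).continuous
    rw [bc_section] at h1
    exact h1.mem_open W.2 heW
  · exact ((hspec _ hdo).map μ[G].left.continuous).mem_open W.2 (hdx.symm ▸ heW)
  · rw [show (snd G G).left o = x from hox]
    exact hx

/-- Over a small open of the base the neutral components are the image of a constructible set of
an affine scheme. -/
theorem exists_image_eq [LocallyOfFinitePresentation G.hom] (s : S) :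
    ∃ (V : S.Opens) (P : Scheme.{u}) (_ : IsAffine P) (ψ : P ⟶ (G.hom ⁻¹ᵁ V : Scheme.{u})) (E : Set P),
      IsAffineOpen V ∧ s ∈ V ∧ LocallyOfFinitePresentation ψ ∧ IsLocallyConstructible E ∧
      QuasiCompact (ψ ≫ G.hom ∣_ V) ∧
      ψ '' E = (G.hom ⁻¹ᵁ V).ι ⁻¹' SGA3x.neutralSet G := by
  obtain ⟨V, W, hle, hV, hW, hsV, heW, hE⟩ := isLocallyConstructible_comp0_inter G s
  have : IsAffine (V : Scheme.{u}) := hV
  have : IsAffine (W : Scheme.{u}) := hW
  let f := G.hom.resLE V W hle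
  have : IsAffineHom f := isAffineHom_of_isAffine f
  let P := pullback f f
  let T : Over S := Over.mk ((pullback.fst f f ≫ f) ≫ V.ι)
  let p₁ : T ⟶ G := Over.homMk (pullback.fst f f ≫ W.ι) (by
    show (pullback.fst f f ≫ W.ι) ≫ G.hom = (pullback.fst f f ≫ f) ≫ V.ι
    rw [Category.assoc, Category.assoc, Scheme.Hom.resLE_comp_ι])
  let p₂ : T ⟶ G := Over.homMk (pullback.snd f f ≫ W.ι) (by
    show (pullback.snd f f ≫ W.ι) ≫ G.hom = (pullback.fst f f ≫ f) ≫ V.ι
    rw [pullback.condition, Category.assoc, Category.assoc, Scheme.Hom.resLE_comp_ι])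
  let ψ₀ : T ⟶ G := p₁⁻¹ * p₂
  have hrange : Set.range ψ₀.left ⊆ Set.range (G.hom ⁻¹ᵁ V).ι := by
    rintro _ ⟨p, rfl⟩
    rw [Scheme.Opens.range_ι]
    show G.hom (ψ₀.left p) ∈ V
    rw [← Scheme.Hom.comp_apply, Over.w]
    exact ((pullback.fst f f ≫ f) p).2
  let ψ : P ⟶ (G.hom ⁻¹ᵁ V : Scheme.{u}) := IsOpenImmersion.lift (G.hom ⁻¹ᵁ V).ι ψ₀.left hrange
  have hψ : ψ ≫ (G.hom ⁻¹ᵁ V).ι = ψ₀.left := IsOpenImmersion.lift_fac _ _ _
  have hψV : ψ ≫ G.hom ∣_ V = pullback.fst f f ≫ f := by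
    rw [← cancel_mono V.ι, Category.assoc, morphismRestrict_ι, reassoc_of% hψ]
    exact Over.w ψ₀
  have hE₀ : ∀ p : W, p ∈ {w : W | W.ι w ∈ comp0 G (G.hom (W.ι w))} ↔ W.ι p ∈ SGA3x.neutralSet G :=
    fun p => (neutralSet_iff G _).symm
  have : LocallyOfFinitePresentation f := inferInstance
  have : LocallyOfFinitePresentation (ψ ≫ G.hom ∣_ V) := by rw [hψV]; infer_instance
  refine ⟨V, P, inferInstance, ψ,
    pullback.fst f f ⁻¹' {w | W.ι w ∈ comp0 G (G.hom (W.ι w))} ∩
      pullback.snd f f ⁻¹' {w | W.ι w ∈ comp0 G (G.hom (W.ι w))}, hV, hsV,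
    LimDesc.lfp_of_comp ψ (G.hom ∣_ V),
    (ConsEngine.isLocallyConstructible_preimage _ hE).inter (ConsEngine.isLocallyConstructible_preimage _ hE),
    by rw [hψV]; infer_instance, ?_⟩
  ext v
  constructor
  · rintro ⟨p, ⟨hp1, hp2⟩, rfl⟩
    let d : T ⟶ G ⊗ G := lift p₁ ψ₀
    have hdμ : d ≫ μ[G] = p₂ := by
      rw [show d ≫ μ[G] = p₁ * ψ₀ from rfl, mul_inv_cancel_left]
    show (G.hom ⁻¹ᵁ V).ι (ψ p) ∈ SGA3x.neutralSet G
    rw [← Scheme.Hom.comp_apply, hψ, neutralSet_iff]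
    have e1 : (fst G G).left (d.left p) = W.ι (pullback.fst f f p) :=
      congrArg (fun k : T ⟶ G => k.left p) (lift_fst p₁ ψ₀)
    have e2 : μ[G].left (d.left p) = W.ι (pullback.snd f f p) :=
      congrArg (fun k : T ⟶ G => k.left p) hdμ
    have e3 : (snd G G).left (d.left p) = ψ₀.left p :=
      congrArg (fun k : T ⟶ G => k.left p) (lift_snd p₁ ψ₀)
    have h := snd_mem_comp0 G (w := d.left p) (by rw [e1]; exact hp1) (by rw [e2]; exact hp2)
    rwa [e3] at h
  · intro hv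
    let x := (G.hom ⁻¹ᵁ V).ι v
    have hxV : G.hom x ∈ V := v.2
    obtain ⟨w, hwx, hw1, hw1', hw2, hw2'⟩ := exists_div G W (heW _ hxV) ((neutralSet_iff G x).1 hv)
    let T' : Over S := Over.mk ((G ⊗ G).left.fromSpecResidueField w ≫ (G ⊗ G).hom)
    let c : T' ⟶ G ⊗ G := Over.homMk ((G ⊗ G).left.fromSpecResidueField w)
    let t : T'.left := IsLocalRing.closedPoint ((G ⊗ G).left.residueField w)
    have hct : ∀ t', c.left t' = w := fun t' => Scheme.fromSpecResidueField_apply w t'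
    have hr : ∀ q : G ⊗ G ⟶ G, q.left w ∈ W → Set.range (c ≫ q).left ⊆ Set.range W.ι := by
      rintro q hq _ ⟨t', rfl⟩
      rw [Scheme.Opens.range_ι, Over.comp_left, Scheme.Hom.comp_apply, hct]
      exact hq
    let a₁ : T'.left ⟶ (W : Scheme.{u}) := IsOpenImmersion.lift W.ι (c ≫ fst G G).left (hr _ hw1)
    let a₂ : T'.left ⟶ (W : Scheme.{u}) := IsOpenImmersion.lift W.ι (c ≫ μ[G]).left (hr _ hw2)
    have ha₁ : a₁ ≫ W.ι = (c ≫ fst G G).left := IsOpenImmersion.lift_fac _ _ _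
    have ha₂ : a₂ ≫ W.ι = (c ≫ μ[G]).left := IsOpenImmersion.lift_fac _ _ _
    have hb : a₁ ≫ f = a₂ ≫ f := by
      rw [← cancel_mono V.ι, Category.assoc, Category.assoc, Scheme.Hom.resLE_comp_ι,
        reassoc_of% ha₁, reassoc_of% ha₂, Over.w, Over.w]
    let e : T' ⟶ T := Over.homMk (pullback.lift a₁ a₂ hb) (by
      show pullback.lift a₁ a₂ hb ≫ (pullback.fst f f ≫ f) ≫ V.ι = T'.hom
      rw [Category.assoc, pullback.lift_fst_assoc, Scheme.Hom.resLE_comp_ι, reassoc_of% ha₁, Over.w])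
    have he1 : e ≫ p₁ = c ≫ fst G G := by
      ext1
      show pullback.lift a₁ a₂ hb ≫ pullback.fst f f ≫ W.ι = _
      rw [pullback.lift_fst_assoc, ha₁]
    have he2 : e ≫ p₂ = c ≫ μ[G] := by
      ext1
      show pullback.lift a₁ a₂ hb ≫ pullback.snd f f ≫ W.ι = _
      rw [pullback.lift_snd_assoc, ha₂]
    have heψ : e ≫ ψ₀ = c ≫ snd G G := by
      rw [show e ≫ ψ₀ = (e ≫ p₁)⁻¹ * (e ≫ p₂) by simp [ψ₀, comp_mul, GrpObj.comp_inv], he1, he2,
        show c ≫ μ[G] = (c ≫ fst G G) * (c ≫ snd G G) by rw [Hom.mul_def, ← comp_lift_assoc, lift_fst_snd, Category.id_comp],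
        inv_mul_cancel_left]
    refine ⟨e.left t, ⟨?_, ?_⟩, (G.hom ⁻¹ᵁ V).ι.isOpenEmbedding.injective ?_⟩
    · show W.ι (pullback.fst f f (e.left t)) ∈ comp0 G (G.hom (W.ι (pullback.fst f f (e.left t))))
      have h : W.ι (pullback.fst f f (e.left t)) = (fst G G).left w := by
        rw [show W.ι (pullback.fst f f (e.left t)) = (e ≫ p₁).left t from rfl, he1, Over.comp_left,
          Scheme.Hom.comp_apply, hct]
      rw [h]; exact hw1'
    · show W.ι (pullback.snd f f (e.left t)) ∈ comp0 G (G.hom (W.ι (pullback.snd f f (e.left t))))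
      have h : W.ι (pullback.snd f f (e.left t)) = μ[G].left w := by
        rw [show W.ι (pullback.snd f f (e.left t)) = (e ≫ p₂).left t from rfl, he2, Over.comp_left,
          Scheme.Hom.comp_apply, hct]
      rw [h]; exact hw2'
    · rw [← Scheme.Hom.comp_apply, hψ]
      refine (congrArg (fun k : T' ⟶ G => k.left t) heψ).trans ?_
      show (c ≫ snd G G).left t = x
      rw [Over.comp_left, Scheme.Hom.comp_apply, hct, hwx]

/-- **The neutral components are ind-constructible.** -/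
theorem isIndConstructible_neutralSet [LocallyOfFinitePresentation G.hom] :
    ProCons.IsIndConstructible (SGA3x.neutralSet G) := by
  intro x
  obtain ⟨V, P, hP, ψ, E, hV, hxV, hψ, hE, -, him⟩ := exists_image_eq G (G.hom x)
  obtain ⟨A, hA, hxA, -⟩ := exists_isAffineOpen_mem_and_subset
    (show (⟨x, hxV⟩ : ↥(G.hom ⁻¹ᵁ V)) ∈ (⊤ : Scheme.Opens (G.hom ⁻¹ᵁ V : Scheme.{u})) from trivial)
  let A' : G.left.Opens := (G.hom ⁻¹ᵁ V).ι ''ᵁ A
  have : IsAffine (A : Scheme.{u}) := hA
  let e : ↥(A : Scheme.{u}) ≃ₜ ↥(A' : Set G.left) := ((G.hom ⁻¹ᵁ V).ι.isOpenEmbedding.isEmbedding.homeomorphImage (A : Set _)).trans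
    (Homeomorph.setCongr rfl)
  refine ⟨A', A'.2, ⟨⟨x, hxV⟩, hxA, rfl⟩,
    {T | ∃ (Q : P.Opens) (hQA : Q ≤ ψ ⁻¹ᵁ A), IsAffineOpen Q ∧
      T = e.symm ⁻¹' ((ψ.resLE A Q hQA) '' ((Q.ι) ⁻¹' E))}, ?_, ?_⟩
  · rintro T ⟨Q, hQA, hQ, rfl⟩
    have : IsAffine (Q : Scheme.{u}) := hQ
    have : IsAffineHom (ψ.resLE A Q hQA) := isAffineHom_of_isAffine _
    exact ((ψ.resLE A Q hQA).isLocallyConstructible_image
      (ConsEngine.isLocallyConstructible_preimage Q.ι hE)).preimage_of_isOpenEmbedding e.symm.isOpenEmbedding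
  · ext v
    obtain ⟨a, rfl⟩ := e.surjective v
    have hval : (e a : G.left) = (G.hom ⁻¹ᵁ V).ι a.1 := rfl
    simp only [Set.mem_preimage, Set.mem_sUnion, Set.mem_ofPred_eq]
    rw [hval, ← Set.mem_preimage, ← him]
    constructor
    · rintro ⟨p, hp, hpa⟩
      obtain ⟨Q, hQ, hpQ, hQle⟩ := exists_isAffineOpen_mem_and_subset
        (show p ∈ ψ ⁻¹ᵁ A from show ψ p ∈ A from hpa ▸ a.2)
      refine ⟨_, ⟨Q, hQle, hQ, rfl⟩, ⟨p, hpQ⟩, hp, ?_⟩
      rw [e.symm_apply_apply]
      apply A.ι.isOpenEmbedding.injective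
      rw [← Scheme.Hom.comp_apply, Scheme.Hom.resLE_comp_ι]
      exact hpa
    · rintro ⟨_, ⟨Q, hQA, hQ, rfl⟩, ⟨p, hp, hpa⟩⟩
      rw [e.symm_apply_apply] at hpa
      exact ⟨Q.ι p, hp,
        (congrArg (fun k : (Q : Scheme.{u}) ⟶ (G.hom ⁻¹ᵁ V : Scheme.{u}) => k p)
          (Scheme.Hom.resLE_comp_ι ψ hQA)).symm.trans (congrArg A.ι hpa)⟩

/-- **The neutral components are locally constructible** when the group is quasi-separated. -/
theorem isLocallyConstructible_neutralSet [LocallyOfFinitePresentation G.hom] [QuasiSeparated G.hom] :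
    IsLocallyConstructible (SGA3x.neutralSet G) := by
  choose V P hP ψ E hV hsV hψ hE hqc him using exists_image_eq G
  refine IsLocallyConstructible.of_isOpenCover (U := fun s => G.hom ⁻¹ᵁ V s)
    (TopologicalSpace.IsOpenCover.mk (top_unique fun x _ => TopologicalSpace.Opens.mem_iSup.2 ⟨G.hom x, hsV _⟩)) fun s => ?_
  have := hψ s
  have := hqc s
  have : QuasiCompact (ψ s) := QuasiCompact.of_comp (ψ s) (G.hom ∣_ V s)
  have h := (ψ s).isLocallyConstructible_image (hE s)
  rw [him s] at h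
  exact h

/-- the neutral components lie in a compact set over a compact base -/
theorem exists_isCompact_neutralSet [LocallyOfFinitePresentation G.hom] [CompactSpace S] :
    ∃ K : Set G.left, IsCompact K ∧ SGA3x.neutralSet G ⊆ K := by
  choose V P hP ψ E hV hsV hψ hE hqc him using exists_image_eq G
  obtain ⟨t, ht⟩ := isCompact_univ.elim_finite_subcover (fun s : S => (V s : Set S))
    (fun s => (V s).2) (fun x _ => Set.mem_iUnion.2 ⟨x, hsV x⟩)
  refine ⟨⋃ s ∈ t, Set.range (ψ s ≫ (G.hom ⁻¹ᵁ V s).ι), t.finite_toSet.isCompact_biUnion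
    (fun s _ => @isCompact_range _ _ _ _ (by have := hP s; infer_instance) _ (Scheme.Hom.continuous _)), ?_⟩
  intro x hx
  obtain ⟨s, hst, hxs⟩ := Set.mem_iUnion₂.1 (ht (Set.mem_univ (G.hom x)))
  obtain ⟨p, -, hp⟩ : (⟨x, hxs⟩ : ↥(G.hom ⁻¹ᵁ V s)) ∈ ψ s '' E s := by rw [him s]; exact hx
  exact Set.mem_iUnion₂.2 ⟨s, hst, p, by rw [Scheme.Hom.comp_apply, hp]; rfl⟩

end Groth.Agent.GrpDim
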