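import Groth.Agent.GrpDim.Construct

/-!
# Neutral points as quotients of points close to the section, for fibrewise finite type groups
-/

universe u

open CategoryTheory CategoryTheory.Limits MonoidalCategory CartesianMonoidalCategory MonObj AlgebraicGeometry
open Groth.Agent.Unibranch
open scoped CategoryTheory.Obj

set_option backward.isDefEq.respectTransparency false

namespace Groth.Agent.GrpDim

variable {S : Scheme.{u}} (G : Over S) [GrpObj G]

/-- a neutral point is a quotient of two points in a given neighbourhood of the section -/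
theorem exists_div_of_fibre (hG : ∀ s : S, LocallyOfFiniteType (G.hom.fiberToSpecResidueField s))
    (W : G.left.Opens) {x : G.left} (heW : η[G].left (G.hom x) ∈ W) (hx : x ∈ comp0 G (G.hom x)) :
    ∃ w : (G ⊗ G).left, (snd G G).left w = x ∧ (fst G G).left w ∈ W ∧ μ[G].left w ∈ W := by
  let j := G.left.fromSpecResidueField x
  let T : Over S := Over.mk (j ≫ G.hom)
  let c : T ⟶ G := Over.homMk j
  let H := (Over.pullback T.hom).obj G
  let t : T.left := IsLocalRing.closedPoint (G.left.residueField x)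
  have hct : ∀ t', c.left t' = x := fun t' => Scheme.fromSpecResidueField_apply x t'
  have : LocallyOfFiniteType H.hom := by
    have hsq : G.left.fromSpecResidueField x ≫ G.hom =
        Spec.map (G.hom.residueFieldMap x) ≫ S.fromSpecResidueField (G.hom x) :=
      (Scheme.Hom.SpecMap_residueFieldMap_fromSpecResidueField G.hom x).symm
    let sq := IsPullback.of_hasPullback G.hom (S.fromSpecResidueField (G.hom x))
    let sq' := IsPullback.of_hasPullback (G.hom.fiberToSpecResidueField (G.hom x))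
      (Spec.map (G.hom.residueFieldMap x))
    have hh := MorphismProperty.of_isPullback sq' (hG (G.hom x))
    have big : IsPullback (pullback.fst (G.hom.fiberToSpecResidueField (G.hom x))
        (Spec.map (G.hom.residueFieldMap x)) ≫ pullback.fst G.hom (S.fromSpecResidueField (G.hom x)))
        (pullback.snd (G.hom.fiberToSpecResidueField (G.hom x)) (Spec.map (G.hom.residueFieldMap x)))
        G.hom T.hom := by
      have h := sq'.paste_horiz sq
      rwa [← hsq] at h
    show LocallyOfFiniteType (pullback.snd G.hom T.hom)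
    rw [← (IsPullback.of_hasPullback G.hom T.hom).isoIsPullback_hom_snd _ _ big]
    exact (MorphismProperty.cancel_left_of_respectsIso @LocallyOfFiniteType _ _).2 hh
  obtain ⟨m, hm, -⟩ := exists_dim_le H t
  obtain ⟨o, ho, hot, hC, -, -⟩ := exists_generic H t hm
  have hspec : ∀ p ∈ comp0 H t, o ⤳ p := fun p hp => specializes_iff_mem_closure.2 (hC.le hp).1
  let d : T ⟶ G ⊗ T := lift c⁻¹ (𝟙 T)
  have hd2 : (snd G T).left (d.left t) = t :=
    congrArg (fun k : T ⟶ T => k.left t) (lift_snd c⁻¹ (𝟙 T))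
  have hd1 : (fst G T).left (d.left t) = (GrpObj.inv (X := G)).left x := by
    refine (congrArg (fun k : T ⟶ G => k.left t) (lift_fst c⁻¹ (𝟙 T))).trans ?_
    show (c ≫ GrpObj.inv (X := G)).left t = _
    rw [Over.comp_left, Scheme.Hom.comp_apply, hct]
  have h3 : G.hom ((GrpObj.inv (X := G)).left x) = G.hom x := by
    rw [← Scheme.Hom.comp_apply, Over.w (GrpObj.inv (X := G))]
  have hdc : d ≫ G ◁ c ≫ μ[G] = toUnit T ≫ η[G] := by
    rw [← Category.assoc, show d ≫ G ◁ c = lift c⁻¹ c by simp [d],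
      show lift c⁻¹ c ≫ μ[G] = c⁻¹ * c from rfl, inv_mul_cancel, Hom.one_def]
  have hdo : d.left t ∈ comp0 H t := by
    have h : (d.left t) ∈ comp0 H (H.hom (d.left t)) := by
      refine (comp0_bc_iff T.hom G (d.left t)).2 ?_
      show (fst G T).left (d.left t) ∈ comp0 G (G.hom ((fst G T).left (d.left t)))
      rw [hd1, h3]
      exact inv_mem_comp0 G hx
    rwa [show H.hom (d.left t) = t from hd2] at h
  refine ⟨(G ◁ c).left o, ?_, ?_, ?_⟩
  · rw [← Scheme.Hom.comp_apply, ← Over.comp_left, whiskerLeft_snd, Over.comp_left,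
      Scheme.Hom.comp_apply, hct]
  · rw [← Scheme.Hom.comp_apply, ← Over.comp_left, whiskerLeft_fst]
    have h1 := (hspec _ (mem_connectedComponentIn (hom_section H t))).map
      (pullback.fst G.hom T.hom).continuous
    rw [bc_section, show T.hom t = G.hom x from congrArg G.hom (hct t)] at h1
    exact h1.mem_open W.2 heW
  · have hdx : (G ◁ c ≫ μ[G]).left (d.left t) = η[G].left (G.hom x) := by
      refine (congrArg (fun k : T ⟶ G => k.left t) hdc).trans ?_
      show (toUnit T ≫ η[G]).left t = _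
      rw [Over.comp_left, Scheme.Hom.comp_apply]
      exact congrArg η[G].left (congrArg G.hom (hct t))
    exact ((hspec _ hdo).map (G ◁ c ≫ μ[G]).left.continuous).mem_open W.2 (hdx.symm ▸ heW)

/-- over a quasi-compact quasi-separated open of the base the neutral components lie in a compact set -/
theorem exists_isCompact_neutralSet_of_fibre
    (hG : ∀ s : S, LocallyOfFiniteType (G.hom.fiberToSpecResidueField s))
    (V : S.Opens) (hVc : IsCompact (V : Set S)) (hVq : IsQuasiSeparated (V : Set S)) :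
    ∃ K : Set G.left, IsCompact K ∧ K ⊆ G.hom ⁻¹ᵁ V ∧
      ∀ x ∈ SGA3x.neutralSet G, G.hom x ∈ V → x ∈ K := by
  have hc : CompactSpace (V : Set S) := isCompact_iff_compactSpace.1 hVc
  have : CompactSpace ↥V := hc
  have : CompactSpace ↥(V : Scheme.{u}) := hc
  have hq : QuasiSeparatedSpace (V : Set S) := (isQuasiSeparated_iff_quasiSeparatedSpace _ V.2).1 hVq
  have : QuasiSeparatedSpace ↥(V : Scheme.{u}) := hq
  have hA : ∀ t : V, ∃ A : G.left.Opens, IsAffineOpen A ∧ η[G].left t.1 ∈ A ∧ A ≤ G.hom ⁻¹ᵁ V := fun t =>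
    exists_isAffineOpen_mem_and_subset (show η[G].left t.1 ∈ G.hom ⁻¹ᵁ V from
      show G.hom (η[G].left t.1) ∈ V from (hom_section G t.1).symm ▸ t.2)
  choose A hA htA hAV using hA
  obtain ⟨I, hI⟩ := isCompact_univ.elim_finite_subcover
    (fun t : V => {t' : V | η[G].left t'.1 ∈ A t})
    (fun t => (A t).2.preimage (η[G].left.continuous.comp continuous_subtype_val))
    (fun t _ => Set.mem_iUnion.2 ⟨t, htA t⟩)
  let W : G.left.Opens := ⨆ t ∈ I, A t
  have hWV : W ≤ G.hom ⁻¹ᵁ V := iSup₂_le fun t _ => hAV t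
  have hWc : IsCompact (W : Set G.left) := by
    rw [show (W : Set G.left) = ⋃ t ∈ I, (A t : Set G.left) by simp [W]]
    exact I.finite_toSet.isCompact_biUnion fun t _ => (hA t).isCompact
  have heW : ∀ s : S, s ∈ V → η[G].left s ∈ W := fun s hs => by
    obtain ⟨t, htI, ht⟩ := Set.mem_iUnion₂.1 (hI (Set.mem_univ (⟨s, hs⟩ : V)))
    exact TopologicalSpace.Opens.mem_iSup.2 ⟨t, TopologicalSpace.Opens.mem_iSup.2 ⟨htI, ht⟩⟩
  have : CompactSpace W := isCompact_iff_compactSpace.1 hWc
  let f := G.hom.resLE V W hWV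
  have : QuasiCompact f := inferInstance
  have : CompactSpace ↥(pullback f f) := QuasiCompact.compactSpace_of_compactSpace (pullback.fst f f)
  let T : Over S := Over.mk ((pullback.fst f f ≫ f) ≫ V.ι)
  let p₁ : T ⟶ G := Over.homMk (pullback.fst f f ≫ W.ι) (by
    show (pullback.fst f f ≫ W.ι) ≫ G.hom = (pullback.fst f f ≫ f) ≫ V.ι
    rw [Category.assoc, Category.assoc, Scheme.Hom.resLE_comp_ι])
  let p₂ : T ⟶ G := Over.homMk (pullback.snd f f ≫ W.ι) (by
    show (pullback.snd f f ≫ W.ι) ≫ G.hom = (pullback.fst f f ≫ f) ≫ V.ι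
    rw [pullback.condition, Category.assoc, Category.assoc, Scheme.Hom.resLE_comp_ι])
  let ψ₀ : T ⟶ G := p₁⁻¹ * p₂
  refine ⟨Set.range ψ₀.left, @isCompact_range _ _ _ _ ‹CompactSpace ↥(pullback f f)› _ ψ₀.left.continuous, ?_, ?_⟩
  · rintro _ ⟨p, rfl⟩
    show G.hom (ψ₀.left p) ∈ V
    rw [← Scheme.Hom.comp_apply, Over.w]
    exact ((pullback.fst f f ≫ f) p).2
  · intro x hx hxV
    obtain ⟨w, hwx, hw1, hw2⟩ := exists_div_of_fibre G hG W (heW _ hxV) ((neutralSet_iff G x).1 hx)
    let T' : Over S := Over.mk ((G ⊗ G).left.fromSpecResidueField w ≫ (G ⊗ G).hom)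
    let c : T' ⟶ G ⊗ G := Over.homMk ((G ⊗ G).left.fromSpecResidueField w)
    let t : T'.left := IsLocalRing.closedPoint ((G ⊗ G).left.residueField w)
    have hct : ∀ t', c.left t' = w := fun t' => Scheme.fromSpecResidueField_apply w t'
    have hr : ∀ q : G ⊗ G ⟶ G, q.left w ∈ W → Set.range (c ≫ q).left ⊆ Set.range W.ι := by
      rintro q hq _ ⟨t', rfl⟩
      rw [Scheme.Opens.range_ι, Over.comp_left, Scheme.Hom.comp_apply, hct]
      exact hq
    let a₁ : T'.left ⟶ (W : Scheme.{u}) := IsOpenImmersion.lift W.ι (c ≫ fst G G).left (hr _ hw1)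
    let a₂ : T'.left ⟶ (W : Scheme.{u}) := IsOpenImmersion.lift W.ι (c ≫ μ[G]).left (hr _ hw2)
    have ha₁ : a₁ ≫ W.ι = (c ≫ fst G G).left := IsOpenImmersion.lift_fac _ _ _
    have ha₂ : a₂ ≫ W.ι = (c ≫ μ[G]).left := IsOpenImmersion.lift_fac _ _ _
    have hb : a₁ ≫ f = a₂ ≫ f := by
      rw [← cancel_mono V.ι, Category.assoc, Category.assoc, Scheme.Hom.resLE_comp_ι,
        reassoc_of% ha₁, reassoc_of% ha₂, Over.w, Over.w]
    let e : T' ⟶ T := Over.homMk (pullback.lift a₁ a₂ hb) (by
      show pullback.lift a₁ a₂ hb ≫ (pullback.fst f f ≫ f) ≫ V.ι = T'.hom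
      rw [Category.assoc, pullback.lift_fst_assoc, Scheme.Hom.resLE_comp_ι, reassoc_of% ha₁, Over.w])
    have he1 : e ≫ p₁ = c ≫ fst G G := by
      ext1
      show pullback.lift a₁ a₂ hb ≫ pullback.fst f f ≫ W.ι = _
      rw [pullback.lift_fst_assoc, ha₁]
    have he2 : e ≫ p₂ = c ≫ μ[G] := by
      ext1
      show pullback.lift a₁ a₂ hb ≫ pullback.snd f f ≫ W.ι = _
      rw [pullback.lift_snd_assoc, ha₂]
    have heψ : e ≫ ψ₀ = c ≫ snd G G := by
      rw [show e ≫ ψ₀ = (e ≫ p₁)⁻¹ * (e ≫ p₂) by simp [ψ₀, comp_mul, GrpObj.comp_inv], he1, he2,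
        show c ≫ μ[G] = (c ≫ fst G G) * (c ≫ snd G G) by
          rw [Hom.mul_def, ← comp_lift_assoc, lift_fst_snd, Category.id_comp],
        inv_mul_cancel_left]
    refine ⟨e.left t, ?_⟩
    refine (congrArg (fun k : T' ⟶ G => k.left t) heψ).trans ?_
    show (c ≫ snd G G).left t = x
    rw [Over.comp_left, Scheme.Hom.comp_apply, hct, hwx]

end Groth.Agent.GrpDim
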