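import Groth.Agent.ConsEngine.IndCons
import Groth.Agent.HTopV.Basic
import Groth.Agent.S3403
import Mathlib.AlgebraicGeometry.Morphisms.UniversallyInjective

/-!
# Subsets of a scheme whose functor of points is representable
-/

universe u

open CategoryTheory CategoryTheory.Limits AlgebraicGeometry
open Groth.Agent

set_option backward.isDefEq.respectTransparency false

namespace Groth.Agent.GrpDim

variable {S : Scheme.{u}} {G G0 : Over S} (i : G0 ⟶ G) [Mono i] (E : Set G.left)

/-- the functor of points of `E` is representable by `i` -/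
def Represents : Prop :=
  ∀ (T : Over S) (g : T ⟶ G), (∃ z : T ⟶ G0, z ≫ i = g) ↔ Set.range g.left.base ⊆ E

variable {i E}

omit [Mono i] in
theorem Represents.range_subset (h : Represents i E) : Set.range i.left.base ⊆ E :=
  (h G0 i).1 ⟨𝟙 _, Category.id_comp i⟩

omit [Mono i] in
theorem Represents.exists_lift (h : Represents i E) {T : Scheme.{u}} (g : T ⟶ G.left)
    (hg : Set.range g.base ⊆ E) : ∃ z : T ⟶ G0.left, z ≫ i.left = g := by
  obtain ⟨z, hz⟩ := (h (Over.mk (g ≫ G.hom)) (Over.homMk g)).2 hg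
  exact ⟨z.left, congrArg (fun k : Over.mk (g ≫ G.hom) ⟶ G => k.left) hz⟩

/-- A valuation ring cannot leave a representable subset at its generic point only. -/
theorem Represents.apply_bot_mem (h : Represents i E) {W : CommRingCat.{u}} [IsDomain W] [ValuationRing W]
    (c : Spec W ⟶ G.left) (hQ : ∀ Q : Spec W, Q.asIdeal ≠ ⊥ → c Q ∈ E)
    (hcl : c (IsLocalRing.closedPoint W) ∈ E) : c ⟨⊥, Ideal.isPrime_bot⟩ ∈ E := by
  by_contra hbad
  let cp : Spec W := IsLocalRing.closedPoint W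
  let x := c cp
  -- the closed point lifts
  obtain ⟨ζ, hζ⟩ := h.exists_lift (G.left.fromSpecResidueField x) (by
    rintro _ ⟨t, rfl⟩
    rw [Scheme.fromSpecResidueField_apply]
    exact hcl)
  let z : G0.left := ζ (IsLocalRing.closedPoint (G.left.residueField x))
  have hiz : i.left z = x := by
    rw [← Scheme.Hom.comp_apply, hζ, Scheme.fromSpecResidueField_apply]
  obtain ⟨A, hA, hxA, -⟩ := exists_isAffineOpen_mem_and_subset (show x ∈ (⊤ : G.left.Opens) from trivial)
  obtain ⟨B, hB, hzB, hBA⟩ := exists_isAffineOpen_mem_and_subset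
    (show z ∈ i.left ⁻¹ᵁ A from show i.left z ∈ A from hiz.symm ▸ hxA)
  have hcA : Set.range c ⊆ Set.range hA.fromSpec := by
    rintro _ ⟨Q, rfl⟩
    rw [hA.range_fromSpec]
    exact ((IsLocalRing.specializes_closedPoint Q).map c.continuous).mem_open A.2 hxA
  let γ := Spec.preimage (IsOpenImmersion.lift hA.fromSpec c hcA)
  have hγ : Spec.map γ ≫ hA.fromSpec = c := by
    rw [Spec.map_preimage, IsOpenImmersion.lift_fac]
  have hiB : Set.range (hB.fromSpec ≫ i.left) ⊆ Set.range hA.fromSpec := by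
    rintro _ ⟨p, rfl⟩
    rw [hA.range_fromSpec]
    have hp : hB.fromSpec p ∈ B := by
      rw [← SetLike.mem_coe, ← hB.range_fromSpec]
      exact ⟨p, rfl⟩
    exact hBA hp
  let ρ := Spec.preimage (IsOpenImmersion.lift hA.fromSpec (hB.fromSpec ≫ i.left) hiB)
  have hρ : Spec.map ρ ≫ hA.fromSpec = hB.fromSpec ≫ i.left := by
    rw [Spec.map_preimage, IsOpenImmersion.lift_fac]
  -- the quotients of the valuation ring
  let J := {a : W // a ≠ 0 ∧ ¬ IsUnit a}
  let π : ∀ a : J, W ⟶ CommRingCat.of (W ⧸ Ideal.span {a.1}) := fun a =>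
    CommRingCat.ofHom (Ideal.Quotient.mk (Ideal.span {a.1}))
  have hπ : ∀ (a : J) (Q : Spec (CommRingCat.of (W ⧸ Ideal.span {a.1}))), c (Spec.map (π a) Q) ∈ E := by
    intro a Q
    refine hQ _ fun h0 => a.2.1 ?_
    have hm : a.1 ∈ (Spec.map (π a) Q).asIdeal := by
      show Ideal.Quotient.mk (Ideal.span {a.1}) a.1 ∈ Q.asIdeal
      rw [Ideal.Quotient.eq_zero_iff_mem.2 (Ideal.mem_span_singleton_self _)]
      exact zero_mem _
    rwa [h0, Ideal.mem_bot] at hm
  have hlift : ∀ a : J, ∃ φ : Γ(G0.left, B) ⟶ CommRingCat.of (W ⧸ Ideal.span {a.1}), ρ ≫ φ = γ ≫ π a := by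
    intro a
    obtain ⟨za, hza⟩ := h.exists_lift (Spec.map (π a) ≫ c) (by
      rintro _ ⟨Q, rfl⟩
      rw [Scheme.Hom.comp_apply]
      exact hπ a Q)
    have : Nontrivial (W ⧸ Ideal.span {a.1}) :=
      Ideal.Quotient.nontrivial_iff.2 fun h1 => a.2.2 (Ideal.span_singleton_eq_top.1 h1)
    have : IsLocalRing (W ⧸ Ideal.span {a.1}) :=
      IsLocalRing.of_surjective' (Ideal.Quotient.mk (Ideal.span {a.1})) Ideal.Quotient.mk_surjective
    have hzar : Set.range za ⊆ Set.range hB.fromSpec := by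
      rintro _ ⟨Q, rfl⟩
      rw [hB.range_fromSpec]
      refine ((IsLocalRing.specializes_closedPoint Q).map za.continuous).mem_open B.2 ?_
      have : IsLocalHom (π a).hom := IsLocalHom.of_surjective _ Ideal.Quotient.mk_surjective
      have : za (IsLocalRing.closedPoint (W ⧸ Ideal.span {a.1})) = z := by
        refine i.left.injective ?_
        rw [hiz, ← Scheme.Hom.comp_apply, hza, Scheme.Hom.comp_apply]
        refine congrArg c (IsLocalRing.comap_closedPoint (S := W ⧸ Ideal.span {a.1}) _)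
      rw [this]
      exact hzB
    refine ⟨Spec.preimage (IsOpenImmersion.lift hB.fromSpec za hzar), Spec.map_injective ?_⟩
    rw [← cancel_mono hA.fromSpec, Spec.map_comp, Spec.map_comp, Category.assoc, Category.assoc, hρ, hγ,
      Spec.map_preimage, IsOpenImmersion.lift_fac_assoc, hza]
  choose φ hφ using hlift
  -- compatibility of the lifts
  have hcompat : ∀ (a b : J) (hab : Ideal.span {a.1} ≤ Ideal.span {b.1}),
      φ a ≫ CommRingCat.ofHom (Ideal.Quotient.factor hab) = φ b := by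
    intro a b hab
    apply Spec.map_injective
    rw [← cancel_mono hB.fromSpec, ← cancel_mono i.left, Category.assoc, Category.assoc, ← hρ,
      ← Category.assoc, ← Category.assoc, ← Spec.map_comp, ← Spec.map_comp, reassoc_of% hφ a, hφ b]
    rfl
  let mulJ : J → J → J := fun a b => ⟨a.1 * b.1, mul_ne_zero a.2.1 b.2.1, fun hu => a.2.2 (isUnit_of_mul_isUnit_left hu)⟩
  have hcp : cp.asIdeal ≠ ⊥ := fun h0 => hbad (by
    rwa [show (⟨⊥, Ideal.isPrime_bot⟩ : Spec W) = cp from PrimeSpectrum.ext h0.symm])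
  obtain ⟨a₀, ha₀, ha₀0⟩ := Submodule.exists_mem_ne_zero_of_ne_bot hcp
  let j₀ : J := ⟨a₀, ha₀0, (IsLocalRing.mem_maximalIdeal _).1 ha₀⟩
  let q : Ideal Γ(G0.left, B) :=
    { carrier := {r | ∀ a, φ a r = 0}
      add_mem' := fun {r s} hr hs a => by rw [map_add, hr a, hs a, add_zero]
      zero_mem' := fun a => map_zero _
      smul_mem' := fun r s hs a => by rw [smul_eq_mul, map_mul, hs a, mul_zero] }
  have hq : q.IsPrime := by
    refine ⟨fun h1 => ?_, fun {r s} hrs => ?_⟩
    · have h2 : (1 : Γ(G0.left, B)) ∈ q := h1 ▸ Submodule.mem_top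
      have h3 := h2 j₀
      rw [map_one] at h3
      exact j₀.2.2 (Ideal.span_singleton_eq_top.1 ((Ideal.eq_top_iff_one _).2
        (Ideal.Quotient.eq_zero_iff_mem.1 (by rw [map_one]; exact h3))))
    · by_contra hne
      push Not at hne
      obtain ⟨⟨a, ha⟩, ⟨b, hb⟩⟩ : (∃ a, φ a r ≠ 0) ∧ ∃ b, φ b s ≠ 0 :=
        ⟨by simpa [q] using hne.1, by simpa [q] using hne.2⟩
      let n := mulJ a b
      obtain ⟨r', hr'⟩ := Ideal.Quotient.mk_surjective (φ n r)
      obtain ⟨s', hs'⟩ := Ideal.Quotient.mk_surjective (φ n s)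
      have hna : Ideal.span {n.1} ≤ Ideal.span {a.1} :=
        Ideal.span_singleton_le_span_singleton.2 (dvd_mul_right _ _)
      have hnb : Ideal.span {n.1} ≤ Ideal.span {b.1} :=
        Ideal.span_singleton_le_span_singleton.2 (dvd_mul_left _ _)
      have hra : ¬ a.1 ∣ r' := fun hd => ha (by
        rw [← hcompat n a hna]
        show Ideal.Quotient.factor hna (φ n r) = 0
        rw [← hr', Ideal.Quotient.factor_mk, Ideal.Quotient.eq_zero_iff_mem, Ideal.mem_span_singleton]
        exact hd)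
      have hsb : ¬ b.1 ∣ s' := fun hd => hb (by
        rw [← hcompat n b hnb]
        show Ideal.Quotient.factor hnb (φ n s) = 0
        rw [← hs', Ideal.Quotient.factor_mk, Ideal.Quotient.eq_zero_iff_mem, Ideal.mem_span_singleton]
        exact hd)
      have hdvd : a.1 * b.1 ∣ r' * s' := by
        have h0 : φ n (r * s) = 0 := hrs n
        rw [map_mul, ← hr', ← hs', ← map_mul, Ideal.Quotient.eq_zero_iff_mem,
          Ideal.mem_span_singleton] at h0
        exact h0
      obtain ⟨t, ht⟩ := (ValuationRing.iff_dvd_total.1 inferInstance).total a.1 r' |>.resolve_left hra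
      obtain ⟨v, hv⟩ := (ValuationRing.iff_dvd_total.1 inferInstance).total b.1 s' |>.resolve_left hsb
      obtain ⟨w, hw⟩ := hdvd
      have hr0 : r' ≠ 0 := fun h0 => hra (by rw [h0]; exact dvd_zero _)
      have hs0 : s' ≠ 0 := fun h0 => hsb (by rw [h0]; exact dvd_zero _)
      have h1 : t * v * w = 1 := mul_left_cancel₀ (mul_ne_zero hr0 hs0) (by
        rw [mul_one]; calc r' * s' * (t * v * w) = (r' * t) * (s' * v) * w := by ring
          _ = r' * s' := by rw [← ht, ← hv, hw])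
      obtain ⟨t', ht'⟩ := (IsUnit.of_mul_eq_one (v * w) (by rw [← h1]; ring) : IsUnit t)
      exact hra ⟨(↑t'⁻¹ : W), by rw [ht, ← ht', mul_assoc, Units.mul_inv, mul_one]⟩
  -- the generic point lies in the range
  have hgen : Spec.map ρ ⟨q, hq⟩ = Spec.map γ ⟨⊥, Ideal.isPrime_bot⟩ := by
    refine PrimeSpectrum.ext (Ideal.ext fun r => ?_)
    show (∀ a, φ a (ρ r) = 0) ↔ γ r ∈ (⊥ : Ideal W)
    have key : ∀ a : J, φ a (ρ r) = Ideal.Quotient.mk (Ideal.span {a.1}) (γ r) := fun a =>
      congrArg (fun k : Γ(G.left, A) ⟶ CommRingCat.of (W ⧸ Ideal.span {a.1}) => k r) (hφ a)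
    simp only [key, Ideal.Quotient.eq_zero_iff_mem, Ideal.mem_span_singleton, Ideal.mem_bot]
    refine ⟨fun hall => by_contra fun h0 => ?_, fun h0 a => h0.symm ▸ dvd_zero _⟩
    by_cases hu : IsUnit (γ r)
    · exact j₀.2.2 (isUnit_of_dvd_unit (hall j₀) hu)
    · let b : J := ⟨γ r, h0, hu⟩
      obtain ⟨t, ht⟩ := hall (mulJ b b)
      refine hu (IsUnit.of_mul_eq_one t ?_)
      exact mul_left_cancel₀ h0 (by rw [mul_one, ← mul_assoc]; exact ht.symm)
  refine hbad (h.range_subset ⟨hB.fromSpec ⟨q, hq⟩, ?_⟩)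
  show i.left (hB.fromSpec ⟨q, hq⟩) = _
  rw [← Scheme.Hom.comp_apply, ← hρ, Scheme.Hom.comp_apply, hgen, ← Scheme.Hom.comp_apply, hγ]

/-- A representable ind-constructible subset is stable under generisation. -/
theorem Represents.stableUnderGeneralization (h : Represents i E)
    (hE : ProCons.IsIndConstructible E) : StableUnderGeneralization E := by
  intro x y hyx hx
  by_contra hy
  obtain ⟨V, hVd, hVv, g, hg0, hg1⟩ := HTopV.exists_spec_valuationRing hyx
  let F : Set (Spec V) := g ⁻¹' E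
  have hF : @IsOpen _ (constructibleTopology ↥(Spec V)) F :=
    ConsTop.isOpen_cons_of_indCons (ConsEngine.indCons_preimage g hE)
  let Sb : Set (Ideal V) := {P | ∃ hP : P.IsPrime, (⟨P, hP⟩ : Spec V) ∉ F}
  have hSb : Sb.Nonempty := ⟨⊥, Ideal.isPrime_bot, show g ⟨⊥, _⟩ ∉ E from hg0.symm ▸ hy⟩
  have hdir : DirectedOn (· ≤ ·) Sb := fun P hP Q hQ => by
    rcases (ValuationRing.iff_ideal_total.1 hVv).total P Q with hle | hle
    · exact ⟨Q, hQ, hle, le_rfl⟩
    · exact ⟨P, hP, le_rfl, hle⟩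
  let U : Ideal V := sSup Sb
  have hmem : ∀ r, r ∈ U ↔ ∃ P ∈ Sb, r ∈ P := fun r => Submodule.mem_sSup_of_directed hSb hdir
  have hU : U.IsPrime := by
    refine ⟨fun h1 => ?_, fun {r s} hrs => ?_⟩
    · obtain ⟨P, ⟨hP, -⟩, h1P⟩ := (hmem 1).1 (h1 ▸ Submodule.mem_top)
      exact hP.ne_top ((Ideal.eq_top_iff_one _).2 h1P)
    · obtain ⟨P, hPS, hrsP⟩ := (hmem _).1 hrs
      obtain ⟨hP, hPF⟩ := hPS
      exact (hP.mem_or_mem hrsP).imp (fun h' => (hmem _).2 ⟨P, ⟨hP, hPF⟩, h'⟩)
        (fun h' => (hmem _).2 ⟨P, ⟨hP, hPF⟩, h'⟩)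
  have hUF : (⟨U, hU⟩ : Spec V) ∉ F := by
    intro hUF
    obtain ⟨T, hT, hUT, hTF⟩ := ConsTop.exists_isConstructible_subset hF hUF
    obtain ⟨D, hD⟩ := PrimeSpectrum.exists_constructibleSetData_iff.2 hT
    rw [← hD] at hUT
    obtain ⟨C, hC, hUC, hUf⟩ := Set.mem_iUnion₂.1 hUT
    have hfin : ∀ s : Finset (Fin C.n), ∃ P ∈ Sb, ∀ k ∈ s, C.g k ∈ P := by
      intro s
      induction s using Finset.induction_on with
      | empty => exact ⟨hSb.some, hSb.some_mem, fun k hk => absurd hk (Finset.notMem_empty _)⟩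
      | insert k s hks ih =>
        obtain ⟨P, hP, hs⟩ := ih
        obtain ⟨Q, hQ, hk⟩ := (hmem _).1 (hUC ⟨k, rfl⟩)
        obtain ⟨R, hR, hPR, hQR⟩ := hdir P hP Q hQ
        refine ⟨R, hR, fun l hl => ?_⟩
        rcases Finset.mem_insert.1 hl with rfl | hl
        exacts [hQR hk, hPR (hs l hl)]
    obtain ⟨P, hPS, hg⟩ := hfin Finset.univ
    obtain ⟨hP, hPF⟩ := hPS
    refine hPF (hTF ?_)
    rw [← hD]
    refine Set.mem_iUnion₂.2 ⟨C, hC, ?_, ?_⟩
    · rintro _ ⟨k, rfl⟩
      exact hg k (Finset.mem_univ _)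
    · intro hf
      exact hUf (fun r hr => (hmem r).2 ⟨P, ⟨hP, hPF⟩, hf hr⟩)
  let W := CommRingCat.of (V ⧸ U)
  let q : V ⟶ W := CommRingCat.ofHom (Ideal.Quotient.mk U)
  have : IsDomain W := inferInstanceAs (IsDomain (V ⧸ U))
  have : ValuationRing W := Function.Surjective.valuationRing (Ideal.Quotient.mk U) Ideal.Quotient.mk_surjective
  refine hUF ?_
  have hbot : Spec.map q ⟨⊥, Ideal.isPrime_bot⟩ = (⟨U, hU⟩ : Spec V) :=
    PrimeSpectrum.ext (Ideal.mk_ker : RingHom.ker (Ideal.Quotient.mk U) = U)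
  have key := h.apply_bot_mem (Spec.map q ≫ g) (fun Q hQ => ?_) ?_
  · rwa [Scheme.Hom.comp_apply, hbot] at key
  · rw [Scheme.Hom.comp_apply]
    by_contra hQE
    have hle : (Spec.map q Q).asIdeal ≤ U := fun r hr => (hmem r).2 ⟨_, ⟨(Spec.map q Q).2, hQE⟩, hr⟩
    refine hQ (eq_bot_iff.2 fun w hw => ?_)
    obtain ⟨r, rfl⟩ := Ideal.Quotient.mk_surjective w
    exact Ideal.Quotient.eq_zero_iff_mem.2 (hle hw)
  · have : IsLocalHom q.hom := IsLocalHom.of_surjective _ Ideal.Quotient.mk_surjective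
    rw [Scheme.Hom.comp_apply,
      show Spec.map q (IsLocalRing.closedPoint W) = IsLocalRing.closedPoint V from
        IsLocalRing.comap_closedPoint (S := V ⧸ U) _, hg1]
    exact hx

/-- **A representable ind-constructible subset is open, represented by the open subscheme.** -/
theorem Represents.isOpenImmersion (h : Represents i E) (hE : ProCons.IsIndConstructible E) :
    IsOpenImmersion i.left ∧ Set.range i.left.base = E := by
  have hgen := h.stableUnderGeneralization hE
  have hopen : IsOpen E := by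
    rw [← interior_eq_iff_isOpen]
    exact subset_antisymm interior_subset fun x hx =>
      (S3403.result G.left E hE x).2 fun x' hx' => hgen hx' hx
  let U : G.left.Opens := ⟨E, hopen⟩
  obtain ⟨z, hz⟩ := h.exists_lift U.ι (by rw [Scheme.Opens.range_ι]; rfl)
  have hr : Set.range i.left ⊆ Set.range U.ι := by
    rw [Scheme.Opens.range_ι]; exact h.range_subset
  let w : G0.left ⟶ (U : Scheme.{u}) := IsOpenImmersion.lift U.ι i.left hr
  have hw : w ≫ U.ι = i.left := IsOpenImmersion.lift_fac _ _ _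
  have : IsIso w := by
    refine ⟨z, ?_, ?_⟩
    · rw [← cancel_mono i.left, Category.assoc, hz, hw, Category.id_comp]
    · rw [← cancel_mono U.ι, Category.assoc, hw, hz, Category.id_comp]
  refine ⟨hw ▸ inferInstance, subset_antisymm h.range_subset fun x hx => ?_⟩
  exact ⟨z ⟨x, hx⟩, by rw [← Scheme.Hom.comp_apply, hz]; rfl⟩

end Groth.Agent.GrpDim
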