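import Groth.Agent.GrpDim.UnivOpen
import Groth.Agent.GrpAct.Basic
import Groth.Agent.S1326
import Groth.Agent.Assoc.Kernel
import Groth.Agent.ConsEngine.SetProp
import Mathlib.AlgebraicGeometry.Morphisms.UniversallyOpen

/-!
# Translates of an open by the neutral components
-/

universe u

open CategoryTheory CategoryTheory.Limits MonoidalCategory CartesianMonoidalCategory MonObj AlgebraicGeometry
open Groth.Agent.Unibranch
open scoped CategoryTheory.Obj

set_option backward.isDefEq.respectTransparency false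

namespace Groth.Agent.GrpDim

variable {S Y : Scheme.{u}} (g : Y ⟶ S) (G : Over S) [GrpObj G]

/-- the neutral component of a base change lies over the neutral component -/
theorem comp0_bc_iff (w : ((Over.pullback g).obj G).left) :
    w ∈ comp0 ((Over.pullback g).obj G) (((Over.pullback g).obj G).hom w) ↔
      pullback.fst G.hom g w ∈ comp0 G (G.hom (pullback.fst G.hom g w)) := by
  have hgy : G.hom (pullback.fst G.hom g w) = g (((Over.pullback g).obj G).hom w) := by
    rw [← Scheme.Hom.comp_apply, pullback.condition]; rfl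
  rw [hgy]
  refine ⟨fun h => ?_, bc_comp0 g G⟩
  let y := ((Over.pullback g).obj G).hom w
  have hsub : pullback.fst G.hom g '' comp0 ((Over.pullback g).obj G) y ⊆ comp0 G (g y) := by
    refine (isPreconnected_connectedComponentIn.image _
      (pullback.fst G.hom g).continuous.continuousOn).subset_connectedComponentIn ?_ ?_
    · exact ⟨_, mem_connectedComponentIn (hom_section _ y), bc_section g G y⟩
    · rintro _ ⟨v, hv, rfl⟩
      have hv' : v ∈ ((Over.pullback g).obj G).hom.base ⁻¹' {y} := connectedComponentIn_subset _ _ hv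
      rw [Set.mem_preimage, Set.mem_singleton_iff, ← Scheme.Hom.comp_apply, pullback.condition,
        Scheme.Hom.comp_apply]
      exact congrArg g hv'
  exact hsub ⟨w, h, rfl⟩

omit g in
/-- the neutral components are stable under inversion -/
theorem inv_mem_comp0 {x : G.left} (hx : x ∈ comp0 G (G.hom x)) :
    (GrpObj.inv (X := G)).left x ∈ comp0 G (G.hom x) := by
  let i : G ⟶ G := GrpObj.inv (X := G)
  have hi : ∀ v, G.hom (i.left v) = G.hom v := fun v => by
    rw [← Scheme.Hom.comp_apply, Over.w i]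
  have he : i.left (η[G].left (G.hom x)) = η[G].left (G.hom x) := by
    have h1 : η[G] ≫ i = η[G] := by
      show η[G] ≫ GrpObj.inv (X := G) = η[G]
      simp
    rw [← Scheme.Hom.comp_apply, ← Over.comp_left, h1]
  have hsub : i.left '' comp0 G (G.hom x) ⊆ comp0 G (G.hom x) := by
    refine (isPreconnected_connectedComponentIn.image _
      i.left.continuous.continuousOn).subset_connectedComponentIn ?_ ?_
    · exact ⟨_, mem_connectedComponentIn (hom_section G _), he⟩
    · rintro _ ⟨v, hv, rfl⟩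
      have hv' : v ∈ G.hom.base ⁻¹' {G.hom x} := connectedComponentIn_subset _ _ hv
      exact (hi v).trans hv'
  exact hsub ⟨x, hx, rfl⟩

variable {X : Over S} (a : AlgGrp.Action G X) (U : X.left.Opens)

/-- points of the base change to `X` lying in the neutral components -/
def neutralOver (X : Over S) : Set (G ⊗ X).left :=
  {w | (fst G X).left w ∈ comp0 G (G.hom ((fst G X).left w))}

/-- pairs moved into `U` -/
noncomputable def intoOpen : (G ⊗ X).left.Opens := a.act.left ⁻¹ᵁ U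

/-- the translates of `U` by neutral components -/
noncomputable def translates : Set X.left := (snd G X).left '' ((intoOpen G a U : Set _) ∩ neutralOver G X)

omit g in
theorem neutralOver_eq [LocallyOfFiniteType G.hom] (w : (G ⊗ X).left) :
    w ∈ neutralOver G X ↔
      w ∈ comp0 ((Over.pullback X.hom).obj G) (((Over.pullback X.hom).obj G).hom w) :=
  (comp0_bc_iff X.hom G w).symm

omit g in
theorem exists_swap {z : (G ⊗ X).left} (hz : (fst G X).left z ∈ comp0 G (G.hom ((fst G X).left z))) :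
    ∃ w ∈ neutralOver G X, (snd G X).left w = a.act.left z ∧ a.act.left w = (snd G X).left z := by
  let T : Over S := Over.mk ((G ⊗ X).left.fromSpecResidueField z ≫ (G ⊗ X).hom)
  let c : T ⟶ G ⊗ X := Over.homMk ((G ⊗ X).left.fromSpecResidueField z)
  let t : T.left := IsLocalRing.closedPoint ((G ⊗ X).left.residueField z)
  have hc : c.left t = z := Scheme.fromSpecResidueField_apply z t
  let d : T ⟶ G ⊗ X := lift (c ≫ fst G X)⁻¹ (c ≫ a.act)
  have hd1 : d ≫ fst G X = (c ≫ fst G X) ≫ GrpObj.inv (X := G) := lift_fst _ _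
  have hd2 : d ≫ snd G X = c ≫ a.act := lift_snd _ _
  have hd3 : d ≫ a.act = c ≫ snd G X := by
    show lift (c ≫ fst G X)⁻¹ (c ≫ a.act) ≫ a.act = _
    rw [show c ≫ a.act = lift (c ≫ fst G X) (c ≫ snd G X) ≫ a.act by
      rw [← comp_lift_assoc, lift_fst_snd, Category.id_comp]]
    rw [← GrpAct.mul_smul a, inv_mul_cancel, GrpAct.one_smul' a]
  refine ⟨d.left t, ?_, ?_, ?_⟩
  · show (fst G X).left (d.left t) ∈ comp0 G (G.hom ((fst G X).left (d.left t)))
    have h : (fst G X).left (d.left t) = (GrpObj.inv (X := G)).left ((fst G X).left z) := by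
      rw [← Scheme.Hom.comp_apply, ← Over.comp_left, hd1, Over.comp_left, Scheme.Hom.comp_apply,
        Over.comp_left, Scheme.Hom.comp_apply, hc]
    rw [h]
    have h2 : G.hom ((GrpObj.inv (X := G)).left ((fst G X).left z)) = G.hom ((fst G X).left z) := by
      rw [← Scheme.Hom.comp_apply, Over.w (GrpObj.inv (X := G))]
    rw [h2]
    exact inv_mem_comp0 G hz
  · rw [← Scheme.Hom.comp_apply, ← Over.comp_left, hd2, Over.comp_left, Scheme.Hom.comp_apply, hc]
  · rw [← Scheme.Hom.comp_apply, ← Over.comp_left, hd3, Over.comp_left, Scheme.Hom.comp_apply, hc]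

omit g in
theorem translates_eq :
    translates G a U = a.act.left.base '' {z : ↥(G ⊗ X).left |
      (fst G X).left.base z ∈ SGA3x.neutralSet G ∧ (snd G X).left.base z ∈ U} := by
  have hn : ∀ v : G.left, v ∈ SGA3x.neutralSet G ↔ v ∈ comp0 G (G.hom v) := fun v => by
    rw [← neutralSet_inter]
    exact ⟨fun h => ⟨h, rfl⟩, fun h => h.1⟩
  ext x
  constructor
  · rintro ⟨w, ⟨hwU, hwN⟩, rfl⟩
    obtain ⟨z, hz, h1, h2⟩ := exists_swap G a hwN
    exact ⟨z, ⟨(hn _).2 hz, show (snd G X).left z ∈ U from h1 ▸ hwU⟩, h2⟩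
  · rintro ⟨z, ⟨hz, hzU⟩, rfl⟩
    obtain ⟨w, hw, h1, h2⟩ := exists_swap G a ((hn _).1 hz)
    exact ⟨w, ⟨show a.act.left w ∈ U from h2 ▸ hzU, hw⟩, h1⟩

omit g in
/-- near the section the neutral components are constructible -/
theorem isLocallyConstructible_comp0_inter [LocallyOfFinitePresentation G.hom] (s : S) :
    ∃ (V : S.Opens) (W : G.left.Opens) (_ : W ≤ G.hom ⁻¹ᵁ V), IsAffineOpen V ∧ IsAffineOpen W ∧
      s ∈ V ∧ (∀ t ∈ V, η[G].left t ∈ W) ∧
      Topology.IsLocallyConstructible {w : W | W.ι w ∈ comp0 G (G.hom (W.ι w))} := by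
  obtain ⟨V, W, hle, hV, hW, hsV, heW, -⟩ := exists_model G s
  refine ⟨V, W, hle, hV, hW, hsV, heW, ?_⟩
  have : IsAffine (W : Scheme.{u}) := hW
  have : IsAffine (V : Scheme.{u}) := hV
  let f := G.hom.resLE V W hle
  have : IsAffineHom f := isAffineHom_of_isAffine f
  have hrange : Set.range (V.ι ≫ η[G].left) ⊆ Set.range W.ι := by
    rintro _ ⟨t, rfl⟩
    rw [Scheme.Opens.range_ι]
    exact heW _ t.2
  let σ : (V : Scheme.{u}) ⟶ (W : Scheme.{u}) := IsOpenImmersion.lift W.ι (V.ι ≫ η[G].left) hrange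
  have hσι : σ ≫ W.ι = V.ι ≫ η[G].left := IsOpenImmersion.lift_fac _ _ _
  have hσ : σ ≫ f = 𝟙 _ := by
    rw [← cancel_mono V.ι, Category.assoc, Scheme.Hom.resLE_comp_ι, reassoc_of% hσι,
      show η[G].left ≫ G.hom = 𝟙 S from Over.w η[G], Category.id_comp]
    exact Category.comp_id _
  have hfι : ∀ v, V.ι (f v) = G.hom (W.ι v) := fun v => by
    rw [← Scheme.Hom.comp_apply, Scheme.Hom.resLE_comp_ι]; rfl
  have hσe : ∀ t, W.ι (σ t) = η[G].left (V.ι t) := fun t => by
    rw [← Scheme.Hom.comp_apply, hσι]; rfl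
  have heq : {w : W | W.ι w ∈ comp0 G (G.hom (W.ι w))} = MoreMor.sectionComponents f σ := by
    ext w
    let t := f w
    have ht : G.hom (W.ι w) = V.ι t := (hfι w).symm
    show W.ι w ∈ comp0 G (G.hom (W.ι w)) ↔ w ∈ connectedComponentIn (f ⁻¹' {t}) (σ t)
    rw [ht]
    have hσt : σ t ∈ f ⁻¹' {t} := by
      show f (σ t) = t
      rw [← Scheme.Hom.comp_apply, hσ]; rfl
    constructor
    · intro hw
      have hpre : _root_.IsPreconnected ((W : Set G.left) ∩ comp0 G (V.ι t)) := by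
        refine IsPreirreducible.isPreconnected ?_
        intro A B hA hB ⟨p, hp, hpA⟩ ⟨q, hq, hqB⟩
        obtain ⟨r, hr, hr'⟩ := (isIrreducible_comp0 G (V.ι t)).2 ((W : Set G.left) ∩ A) ((W : Set G.left) ∩ B)
          (W.2.inter hA) (W.2.inter hB) ⟨p, hp.2, hp.1, hpA⟩ ⟨q, hq.2, hq.1, hqB⟩
        exact ⟨r, ⟨hr'.1.1, hr⟩, hr'.1.2, hr'.2.2⟩
      have hpre' : _root_.IsPreconnected (W.ι ⁻¹' ((W : Set G.left) ∩ comp0 G (V.ι t))) :=
        hpre.preimage_of_isOpenMap W.ι.isOpenEmbedding.injective W.ι.isOpenEmbedding.isOpenMap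
          (by rw [Scheme.Opens.range_ι]; exact Set.inter_subset_left)
      refine hpre'.subset_connectedComponentIn ?_ ?_ ⟨w.2, hw⟩
      · refine ⟨(σ t).2, ?_⟩
        show W.ι (σ t) ∈ comp0 G (V.ι t)
        rw [hσe]
        exact mem_connectedComponentIn (hom_section G _)
      · intro v hv
        refine V.ι.isOpenEmbedding.injective ((hfι v).trans ?_)
        have := connectedComponentIn_subset _ _ hv.2
        exact this
    · intro hw
      have hsub : W.ι '' connectedComponentIn (f ⁻¹' {t}) (σ t) ⊆ comp0 G (V.ι t) := by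
        refine (isPreconnected_connectedComponentIn.image _
          W.ι.continuous.continuousOn).subset_connectedComponentIn ?_ ?_
        · exact ⟨σ t, mem_connectedComponentIn hσt, hσe t⟩
        · rintro _ ⟨v, hv, rfl⟩
          have hv' : v ∈ f ⁻¹' {t} := connectedComponentIn_subset _ _ hv
          exact (hfι v).symm.trans (congrArg V.ι hv')
      exact hsub ⟨w, hw, rfl⟩
  rw [heq]
  exact S1326.result f σ hσ

omit g G in
theorem eq_of_specializes {Z α : Type*} [TopologicalSpace Z] {f : Z → α} (hf : IsLocallyConstant f)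
    {p q : Z} (h : p ⤳ q) : f p = f q := by
  obtain ⟨O, hO, hqO, hc⟩ := hf.exists_open q
  exact hc p (h.mem_open hO hqO)

omit g in
/-- **The translates form an open set.** -/
theorem isOpen_translates [LocallyOfFinitePresentation G.hom]
    (hdim : IsLocallyConstant (fun s : S => topologicalKrullDim ↥(G.hom ⁻¹' {s}))) :
    IsOpen (translates G a U) := by
  rw [isOpen_iff_mem_nhds]
  rintro x ⟨w₀, ⟨hwU, hwN⟩, hwx⟩
  let G' := (Over.pullback X.hom).obj G
  have : LocallyOfFinitePresentation G'.hom :=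
    inferInstanceAs (LocallyOfFinitePresentation (pullback.snd G.hom X.hom))
  have hw' : w₀ ∈ comp0 G' x := by
    have h := (neutralOver_eq G w₀).1 hwN
    rwa [show G'.hom w₀ = x from hwx] at h
  obtain ⟨m, hm, -⟩ := exists_dim_le G' x
  obtain ⟨ζ₀, hζ₀, hζ₀x, hC, -, -⟩ := exists_generic G' x hm
  have hspec : ∀ p ∈ comp0 G' x, ζ₀ ⤳ p := fun p hp => specializes_iff_mem_closure.2 (hC.le hp).1
  have hζA : ζ₀ ∈ intoOpen G a U := (hspec w₀ hw').mem_open (intoOpen G a U).2 hwU
  obtain ⟨V₀, W₀, hle, hV₀, hW₀, hsV, heW, hE⟩ := isLocallyConstructible_comp0_inter G (X.hom x)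
  have hζW : (fst G X).left ζ₀ ∈ W₀ := by
    have h1 := (hspec _ (mem_connectedComponentIn (hom_section G' x))).map
      (pullback.fst G.hom X.hom).continuous
    rw [bc_section] at h1
    exact h1.mem_open W₀.2 (heW _ hsV)
  obtain ⟨X₀, hX₀, hxX₀, -⟩ := exists_isAffineOpen_mem_and_subset (show x ∈ (⊤ : X.left.Opens) from trivial)
  obtain ⟨Q, hQ, hζQ, hQle⟩ := exists_isAffineOpen_mem_and_subset
    (show ζ₀ ∈ intoOpen G a U ⊓ (fst G X).left ⁻¹ᵁ W₀ ⊓ (snd G X).left ⁻¹ᵁ X₀ from
      ⟨⟨hζA, hζW⟩, show (snd G X).left ζ₀ ∈ X₀ from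
        (show (snd G X).left ζ₀ = x from hζ₀x).symm ▸ hxX₀⟩)
  have hQW : Q ≤ (fst G X).left ⁻¹ᵁ W₀ := fun q hq => (hQle hq).1.2
  have hQX : Q ≤ (snd G X).left ⁻¹ᵁ X₀ := fun q hq => (hQle hq).2
  let q₁ := (fst G X).left.resLE W₀ Q hQW
  let q₂ := (snd G X).left.resLE X₀ Q hQX
  have : LocallyOfFinitePresentation (snd G X).left :=
    inferInstanceAs (LocallyOfFinitePresentation (pullback.snd G.hom X.hom))
  have : IsAffine (Q : Scheme.{u}) := hQ
  have : IsAffine (X₀ : Scheme.{u}) := hX₀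
  have : IsAffineHom q₂ := isAffineHom_of_isAffine q₂
  have hK := q₂.isLocallyConstructible_image (ConsEngine.isLocallyConstructible_preimage q₁ hE)
  have h1 : ∀ p, W₀.ι (q₁ p) = (fst G X).left (Q.ι p) := fun p => by
    rw [← Scheme.Hom.comp_apply, Scheme.Hom.resLE_comp_ι]; rfl
  have h2 : ∀ p, X₀.ι (q₂ p) = (snd G X).left (Q.ι p) := fun p => by
    rw [← Scheme.Hom.comp_apply, Scheme.Hom.resLE_comp_ι]; rfl
  have hn := mem_nhds_of_isLocallyConstructible (y := (⟨x, hxX₀⟩ : X₀)) hK fun b hb => by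
    have hb' : X₀.ι b ⤳ x := hb.map X₀.ι.continuous
    have hx0 : ζ₀ ∈ comp0 G' (G'.hom ζ₀) := by rw [hζ₀x]; exact hζ₀
    obtain ⟨ζ, hζ, hζb, hζC⟩ := exists_lift_mem G' (a := X₀.ι b) hx0 (hζ₀x.symm ▸ hb')
      (hζ₀x.symm ▸ (by
        rw [bc_dim, bc_dim]
        exact eq_of_specializes hdim (hb'.map X.hom.continuous)))
    refine ⟨⟨ζ, hζ.mem_open Q.2 hζQ⟩, ?_, X₀.ι.isOpenEmbedding.injective ((h2 _).trans hζb)⟩
    show W₀.ι (q₁ _) ∈ comp0 G (G.hom (W₀.ι (q₁ _)))
    rw [h1]
    exact (neutralOver_eq G ζ).2 (hζb ▸ hζC)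
  obtain ⟨O, hO, hOo, hxO⟩ := mem_nhds_iff.1 hn
  refine mem_nhds_iff.2 ⟨X₀.ι '' O, ?_, X₀.ι.isOpenEmbedding.isOpenMap O hOo, ⟨_, hxO, rfl⟩⟩
  rintro _ ⟨b, hb, rfl⟩
  obtain ⟨p, hp, rfl⟩ := hO hb
  refine ⟨Q.ι p, ⟨(hQle p.2).1.1, ?_⟩, (h2 p).symm⟩
  show (fst G X).left (Q.ι p) ∈ comp0 G _
  rw [← h1]
  exact hp

end Groth.Agent.GrpDim
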