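import Groth.Agent.GrpDim.FibreDiv
import Groth.Agent.GrpField.FlatPoint
import Groth.Agent.FibCrit.Props
import Groth.Agent.Unibranch.SectionComp
import Mathlib

/-!
# Images of neutral components under homomorphisms
-/

universe u

open CategoryTheory CategoryTheory.Limits MonoidalCategory CartesianMonoidalCategory MonObj AlgebraicGeometry
open Groth.Agent.Unibranch
open scoped CategoryTheory.Obj

set_option backward.isDefEq.respectTransparency false

namespace Groth.Agent.GrpDim

variable {S : Scheme.{u}} {G H : Over S} [GrpObj G] [GrpObj H] (v : G ⟶ H) [IsMonHom v]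

omit [GrpObj G] [GrpObj H] [IsMonHom v] in
theorem hom_apply (x : G.left) : H.hom (v.left x) = G.hom x := by
  rw [← Scheme.Hom.comp_apply, Over.w v]

theorem image_comp0_subset (s : S) : v.left '' comp0 G s ⊆ comp0 H s := by
  have he : v.left (η[G].left s) = η[H].left s :=
    congrArg (fun k : 𝟙_ (Over S) ⟶ H => k.left s) (IsMonHom.one_hom (f := v))
  refine (isPreconnected_connectedComponentIn.image _
    v.left.continuous.continuousOn).subset_connectedComponentIn
    ⟨_, mem_connectedComponentIn (hom_section G s), he⟩ ?_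
  rintro _ ⟨x, hx, rfl⟩
  have hx' : x ∈ G.hom.base ⁻¹' {s} := connectedComponentIn_subset _ _ hx
  exact (hom_apply v x).trans hx'

/-- neutral points of the target which are quotients of images are images -/
theorem comp0_subset_image [LocallyOfFiniteType G.hom] [LocallyOfFiniteType H.hom] {s : S}
    (W : H.left.Opens) (heW : η[H].left s ∈ W)
    (hW : ∀ h ∈ W, H.hom h = s → h ∈ v.left '' comp0 G s) :
    comp0 H s ⊆ v.left '' comp0 G s := by
  intro x hx
  have hxs' : x ∈ H.hom.base ⁻¹' {s} := connectedComponentIn_subset _ _ hx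
  have hxs : H.hom x = s := hxs'
  subst hxs
  obtain ⟨w, hwx, hw1, hw2⟩ := exists_div_of_fibre H
    (fun t => MorphismProperty.pullback_snd (P := @LocallyOfFiniteType) _ _ inferInstance) W heW hx
  have hws1 : H.hom ((fst H H).left w) = H.hom x := by
    rw [← hwx, ← Scheme.Hom.comp_apply, ← Scheme.Hom.comp_apply, Over.w (fst H H), Over.w (snd H H)]
  have hws2 : H.hom (μ[H].left w) = H.hom x := by
    rw [← hwx, ← Scheme.Hom.comp_apply, ← Scheme.Hom.comp_apply, Over.w μ[H], Over.w (snd H H)]
  obtain ⟨g₁, hg₁, hg₁'⟩ := hW _ hw1 hws1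
  obtain ⟨g₂, hg₂, hg₂'⟩ := hW _ hw2 hws2
  let j := (H ⊗ H).left.fromSpecResidueField w
  have hj : ∀ q, j q = w := fun q => Scheme.fromSpecResidueField_apply w q
  let t : Spec ((H ⊗ H).left.residueField w) := IsLocalRing.closedPoint ((H ⊗ H).left.residueField w)
  obtain ⟨t₁, ht₁, ht₁'⟩ := Scheme.Pullback.exists_preimage_pullback (f := v.left)
    (g := j ≫ (fst H H).left) g₁ t (by rw [hg₁', Scheme.Hom.comp_apply, hj])
  let P₁ := pullback v.left (j ≫ (fst H H).left)
  let k₁ : P₁ ⟶ (H ⊗ H).left := pullback.snd v.left (j ≫ (fst H H).left) ≫ j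
  obtain ⟨t₂, ht₂, ht₂'⟩ := Scheme.Pullback.exists_preimage_pullback (f := v.left)
    (g := k₁ ≫ μ[H].left) g₂ t₁
    (by rw [hg₂']; simp only [k₁, Scheme.Hom.comp_apply, hj])
  let P₂ := pullback v.left (k₁ ≫ μ[H].left)
  let k₂ : P₂ ⟶ (H ⊗ H).left := pullback.snd v.left (k₁ ≫ μ[H].left) ≫ k₁
  let T : Over S := Over.mk (k₂ ≫ (H ⊗ H).hom)
  let c : T ⟶ H ⊗ H := Over.homMk k₂
  let a₁ : T ⟶ G := Over.homMk (pullback.snd v.left (k₁ ≫ μ[H].left) ≫ pullback.fst v.left (j ≫ (fst H H).left)) (by
    show _ ≫ G.hom = k₂ ≫ (H ⊗ H).hom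
    rw [Category.assoc, ← Over.w v, pullback.condition_assoc]
    simp only [k₂, k₁, Category.assoc, Over.w])
  let a₂ : T ⟶ G := Over.homMk (pullback.fst v.left (k₁ ≫ μ[H].left)) (by
    show _ ≫ G.hom = k₂ ≫ (H ⊗ H).hom
    rw [← Over.w v, pullback.condition_assoc]
    simp only [k₂, k₁, Category.assoc, Over.w])
  have h₁ : a₁ ≫ v = c ≫ fst H H := by
    ext1
    show (_ ≫ _) ≫ v.left = k₂ ≫ (fst H H).left
    rw [Category.assoc, pullback.condition]
    simp only [k₂, k₁, Category.assoc]
  have h₂ : a₂ ≫ v = c ≫ μ[H] := by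
    ext1
    show pullback.fst v.left (k₁ ≫ μ[H].left) ≫ v.left = k₂ ≫ μ[H].left
    rw [pullback.condition]
    simp only [k₂, Category.assoc]
  let d : T ⟶ G ⊗ G := lift a₁ (a₁⁻¹ * a₂)
  have hd : (a₁⁻¹ * a₂) ≫ v = c ≫ snd H H := by
    rw [MonObj.mul_comp, GrpObj.inv_comp, h₁, h₂,
      show c ≫ μ[H] = (c ≫ fst H H) * (c ≫ snd H H) by
        rw [Hom.mul_def, ← comp_lift_assoc, lift_fst_snd, Category.id_comp],
      inv_mul_cancel_left]
  have e1 : (fst G G).left (d.left t₂) = g₁ := by
    refine (congrArg (fun k : T ⟶ G => k.left t₂) (lift_fst a₁ (a₁⁻¹ * a₂))).trans ?_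
    show (pullback.snd v.left (k₁ ≫ μ[H].left) ≫ pullback.fst v.left (j ≫ (fst H H).left)) t₂ = g₁
    rw [Scheme.Hom.comp_apply, ht₂', ht₁]
  have hdμ : d ≫ μ[G] = a₂ := by
    rw [show d ≫ μ[G] = a₁ * (a₁⁻¹ * a₂) from rfl, mul_inv_cancel_left]
  have e2 : μ[G].left (d.left t₂) = g₂ :=
    (congrArg (fun k : T ⟶ G => k.left t₂) hdμ).trans ht₂
  have e3 : v.left ((snd G G).left (d.left t₂)) = x := by
    refine (congrArg (fun k : T ⟶ H => k.left t₂) (show (d ≫ snd G G) ≫ v = c ≫ snd H H by
      rw [show d ≫ snd G G = a₁⁻¹ * a₂ from lift_snd _ _, hd])).trans ?_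
    show (k₂ ≫ (snd H H).left) t₂ = x
    simp only [k₂, k₁, Scheme.Hom.comp_apply, hj]
    exact hwx
  have hG : ∀ {g : G.left}, g ∈ comp0 G (H.hom x) → g ∈ comp0 G (G.hom g) := fun {g} hg => by
    have hg' : g ∈ G.hom.base ⁻¹' {H.hom x} := connectedComponentIn_subset _ _ hg
    rwa [show G.hom g = H.hom x from hg']
  have h := snd_mem_comp0 G (w := d.left t₂) (by rw [e1]; exact hG hg₁) (by rw [e2]; exact hG hg₂)
  refine ⟨_, ?_, e3⟩
  rwa [← hom_apply v, e3] at h

omit [GrpObj G] [GrpObj H] [IsMonHom v] in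
/-- the map of fibres of a homomorphism, as a base change -/
theorem isPullback_bc_map (s : S) :
    IsPullback (pullback.fst G.hom (S.fromSpecResidueField s))
      ((Over.pullback (S.fromSpecResidueField s)).map v).left v.left (H.hom.fiberι s) := by
  refine IsPullback.of_bot ?_ ?_ (IsPullback.of_hasPullback H.hom (S.fromSpecResidueField s))
  · rw [show ((Over.pullback (S.fromSpecResidueField s)).map v).left ≫ pullback.snd H.hom _ =
      pullback.snd G.hom (S.fromSpecResidueField s) from pullback.lift_snd _ _ _, Over.w v]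
    exact IsPullback.of_hasPullback G.hom (S.fromSpecResidueField s)
  · exact (pullback.lift_fst _ _ _).symm

/-- **A flat homomorphism maps neutral components onto neutral components.** -/
theorem image_comp0_eq [LocallyOfFinitePresentation G.hom] [LocallyOfFinitePresentation H.hom] [Flat v.left]
    (s : S) : v.left '' comp0 G s = comp0 H s := by
  refine (image_comp0_subset v s).antisymm ?_
  obtain ⟨O, hO⟩ := exists_opens_inter_eq G.hom s (hom_section G s)
  have : LocallyOfFinitePresentation v.left := by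
    have : LocallyOfFinitePresentation (v.left ≫ H.hom) := by rw [Over.w v]; infer_instance
    exact LimDesc.lfp_of_comp v.left H.hom
  have sq := isPullback_bc_map v s
  let vs := ((Over.pullback (S.fromSpecResidueField s)).map v).left
  have : Flat vs := MorphismProperty.of_isPullback sq ‹Flat v.left›
  have : LocallyOfFinitePresentation vs := MorphismProperty.of_isPullback sq ‹LocallyOfFinitePresentation v.left›
  have hopen : IsOpen (vs '' (pullback.fst G.hom (S.fromSpecResidueField s) ⁻¹' (O : Set G.left))) :=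
    vs.isOpenMap _ (O.2.preimage (pullback.fst G.hom (S.fromSpecResidueField s)).continuous)
  obtain ⟨W, hW, hWO⟩ := (H.hom.fiberι s).isEmbedding.isInducing.isOpen_iff.mp hopen
  have hc : ∀ p, H.hom.fiberι s (vs p) = v.left (G.hom.fiberι s p) := fun p =>
    (congrArg (fun k : G.hom.fiber s ⟶ H.left => k p) sq.w).symm
  refine comp0_subset_image v ⟨W, hW⟩ ?_ ?_
  · obtain ⟨p, hp⟩ := (G.hom.range_fiberι s).ge (hom_section G s)
    have hpO : G.hom.fiberι s p ∈ O := by
      rw [hp]
      exact (hO.ge (mem_connectedComponentIn (hom_section G s))).1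
    have h1 : vs p ∈ (H.hom.fiberι s) ⁻¹' W := hWO ▸ ⟨p, hpO, rfl⟩
    rw [Set.mem_preimage, hc, hp] at h1
    rwa [show v.left (η[G].left s) = η[H].left s from
      congrArg (fun k : 𝟙_ (Over S) ⟶ H => k.left s) (IsMonHom.one_hom (f := v))] at h1
  · intro h hh hhs
    obtain ⟨p, rfl⟩ := (H.hom.range_fiberι s).ge hhs
    obtain ⟨q, hq, rfl⟩ := hWO.le hh
    refine ⟨G.hom.fiberι s q, ?_, (hc q).symm⟩
    show G.hom.fiberι s q ∈ connectedComponentIn _ _
    rw [← hO]
    exact ⟨hq, (G.hom.range_fiberι s).le ⟨q, rfl⟩⟩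

/-- **Conversely, a surjection of neutral components onto reduced fibres gives flatness.** -/
theorem flat_of_image_comp0_eq [LocallyOfFinitePresentation G.hom] [LocallyOfFinitePresentation H.hom]
    [Flat G.hom] (hred : ∀ s : S, IsReduced (H.hom.fiber s))
    (himg : ∀ s, comp0 H s ⊆ v.left '' comp0 G s) : Flat v.left := by
  refine (FibCrit.flat_of_fibres (g := H.hom) (h := G.hom) (f := v.left) (Over.w v) fun s => ?_).2.1
  have sq := isPullback_bc_map v s
  let ι₀ := S.fromSpecResidueField s
  let G' := (Over.pullback ι₀).obj G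
  let H' := (Over.pullback ι₀).obj H
  let v' : G' ⟶ H' := (Over.pullback ι₀).map v
  have : IsMonHom v' := inferInstance
  have : Flat G'.hom := inferInstanceAs (Flat (pullback.snd G.hom ι₀))
  have : LocallyOfFiniteType H'.hom := inferInstanceAs (LocallyOfFiniteType (pullback.snd H.hom ι₀))
  have : GrpField.PointBase (Spec (S.residueField s)) :=
    inferInstanceAs (GrpField.PointBase (Spec (CommRingCat.of (S.residueField s))))
  have : Subsingleton (Spec (S.residueField s)) := inferInstanceAs (Subsingleton (PrimeSpectrum _))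
  obtain ⟨m, hm, -⟩ := exists_dim_le H s
  obtain ⟨ξ, hξ, hξs, hC, -, -⟩ := exists_generic H s hm
  obtain ⟨g, hg, hgξ⟩ := himg s hξ
  obtain ⟨q, hq⟩ := (G.hom.range_fiberι s).ge (show G.hom g = s from
    (hom_apply v g).symm.trans (hgξ ▸ hξs))
  have hc : H.hom.fiberι s (v'.left q) = ξ := by
    rw [← hgξ, ← hq]
    exact (congrArg (fun k : G.hom.fiber s ⟶ H.left => k q) sq.w).symm
  have hfl : Flat v'.left := by
    have : IsReduced H'.left := hred s
    have hfld : IsField (H'.left.presheaf.stalk (v'.left q)) := by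
      refine isField_stalk_of_closure_mem_irreducibleComponents _ _ ?_
      refine ⟨isIrreducible_singleton.closure, fun Z hZ hle => ?_⟩
      have hq0 : v'.left q ∈ Z := hle (subset_closure rfl)
      intro z hz
      have hcomp : comp0 H s = connectedComponentIn (H.hom.base ⁻¹' {s}) ξ := connectedComponentIn_eq hξ
      have hz1 : H.hom.fiberι s z ∈ comp0 H s := by
        rw [hcomp, ← hc]
        have hcl : Z ⊆ connectedComponent (v'.left q) := (show IsIrreducible Z from hZ).isConnected.isPreconnected.subset_connectedComponent hq0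
        exact (fiberι_image_connectedComponent H.hom s _).le ⟨z, hcl hz, rfl⟩
      have hz2 := (hC.le hz1).1
      rw [← hc, ← specializes_iff_mem_closure,
        (H.hom.fiberι s).isEmbedding.isInducing.specializes_iff] at hz2
      exact specializes_iff_mem_closure.1 hz2
    refine GrpField.flat_of_flat_stalkMap v' (x := q) ?_
    letI := hfld.toField
    letI := (v'.left.stalkMap q).hom.toAlgebra
    exact Module.Flat.of_free
  rw [← sq.isoPullback_inv_snd]
  exact (MorphismProperty.cancel_left_of_respectsIso @Flat _ _).2 hfl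

end Groth.Agent.GrpDim
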