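import Groth.Agent.GrpDim.Flat
import Groth.Agent.GrpComp.HomogTop
import Groth.Agent.Unibranch.SectionComp
import Mathlib.CategoryTheory.Monoidal.Cartesian.Over

/-!
# Neutral components of the fibres
-/

universe u

open CategoryTheory CategoryTheory.Limits MonoidalCategory CartesianMonoidalCategory MonObj AlgebraicGeometry
open Groth.Agent.Unibranch

set_option backward.isDefEq.respectTransparency false

namespace Groth.Agent.GrpDim

variable {S : Scheme.{u}} (G : Over S) [GrpObj G]

/-- the connected component of the neutral point in a fibre -/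
def comp0 (s : S) : Set G.left := connectedComponentIn (G.hom.base ⁻¹' {s}) (η[G].left s)

omit [GrpObj G] in
theorem isIrreducible_connectedComponent {K : Type u} [Field K] (F : Over (Spec (CommRingCat.of K)))
    [GrpObj F] [LocallyOfFiniteType F.hom] (p : F.left) : IsIrreducible (connectedComponent p) := by
  have : IsLocallyNoetherian F.left := LocallyOfFiniteType.isLocallyNoetherian F.hom
  let a : AlgGrp.Action F F :=
    { act := μ[F]
      one_act := MonObj.one_mul F
      mul_act := MonObj.mul_assoc F }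
  have hΦ : Surjective (lift a.act (snd F F)).left := by
    haveI : IsSplitEpi (lift a.act (snd F F)) :=
      ⟨⟨⟨lift (fst F F * (snd F F)⁻¹) (snd F F), by
        apply CartesianMonoidalCategory.hom_ext
        · rw [Category.assoc, lift_fst, Category.id_comp]
          change CartesianMonoidalCategory.lift _ _ ≫ MonObj.mul (X := F) = _
          rw [← Hom.mul_def, inv_mul_cancel_right]
        · simp⟩⟩⟩
    refine ⟨fun z => ⟨(section_ (lift a.act (snd F F))).left z, ?_⟩⟩
    rw [← Scheme.Hom.comp_apply, ← Over.comp_left, IsSplitEpi.id]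
    rfl
  rw [GrpComp.connectedComponent_eq_homog a hΦ p]
  exact isIrreducible_irreducibleComponent

theorem isIrreducible_comp0 [LocallyOfFiniteType G.hom] (s : S) : IsIrreducible (comp0 G s) := by
  have hes : η[G].left s ∈ G.hom.base ⁻¹' {s} := hom_section G s
  obtain ⟨p, hp⟩ : η[G].left s ∈ Set.range (G.hom.fiberι s) := (G.hom.range_fiberι s).ge hes
  let : GrpObj (Over.mk G.hom) := inferInstanceAs (GrpObj G)
  let F : Over (Spec (CommRingCat.of (S.residueField s))) :=
    Over.mk (pullback.snd G.hom (S.fromSpecResidueField s))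
  let : GrpObj F := Over.grpObjMkPullbackSnd
  have : LocallyOfFiniteType F.hom :=
    inferInstanceAs (LocallyOfFiniteType (pullback.snd G.hom (S.fromSpecResidueField s)))
  have h := (isIrreducible_connectedComponent F p).image (G.hom.fiberι s)
    (G.hom.fiberι s).continuous.continuousOn
  rw [comp0, ← hp, ← fiberι_image_connectedComponent]
  exact h

/-- the generic point of the neutral component of a fibre, with its dimension -/
theorem exists_generic [LocallyOfFiniteType G.hom] (s : S) {n : ℕ}
    (hn : topologicalKrullDim ↥(G.hom ⁻¹' {s}) = (n : WithBot ℕ∞)) :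
    ∃ ξ ∈ comp0 G s, G.hom ξ = s ∧ comp0 G s = closure {ξ} ∩ G.hom.base ⁻¹' {s} ∧
      ChainsLE G.hom (closure {ξ}) s n ∧ HasChain G.hom (closure {ξ}) s n := by
  obtain ⟨ξ, hξ, hξs, -, hC, d, hd, hle, hge, -⟩ :=
    exists_genericPoint_connectedComponent G.hom (hom_section G s) (isIrreducible_comp0 G s)
  obtain ⟨O, hO⟩ := exists_opens_inter_eq G.hom s (x := η[G].left s) (hom_section G s)
  have hmem : η[G].left s ∈ O := (hO.ge (mem_connectedComponentIn (hom_section G s))).1
  have hdim := dim_inter G O hmem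
  rw [hom_section] at hdim
  have hdn : (d : WithBot ℕ∞) = (n : WithBot ℕ∞) := by
    rw [← hd, ← hn, ← hdim]
    exact IsHomeomorph.topologicalKrullDim_eq _ (Homeomorph.setCongr hO.symm).isHomeomorph
  obtain rfl : d = n := by exact_mod_cast hdn
  exact ⟨ξ, hξ, hξs, hC, hle, hge⟩

/-- where the dimension does not drop, the points of the neutral component lift into it -/
theorem exists_lift_mem [LocallyOfFiniteType G.hom] {a : S} {x : G.left}
    (hx : x ∈ comp0 G (G.hom x)) (ha : a ⤳ G.hom x)
    (hdim : topologicalKrullDim ↥(G.hom ⁻¹' {a}) = topologicalKrullDim ↥(G.hom ⁻¹' {G.hom x})) :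
    ∃ ζ, ζ ⤳ x ∧ G.hom ζ = a ∧ ζ ∈ comp0 G a := by
  obtain ⟨n, hn, -⟩ := exists_dim_le G (G.hom x)
  obtain ⟨ζ, hζmem, hζa, hCa, -, hge⟩ := exists_generic G a (hdim.trans hn)
  obtain ⟨ξ, hξ, hξs, hCs, hle, -⟩ := exists_generic G (G.hom x) hn
  have hζe : ζ ⤳ η[G].left (G.hom x) :=
    (specializes_iff_mem_closure.2 (hCa.le (mem_connectedComponentIn (hom_section G a))).1).trans
      (ha.map η[G].left.continuous)
  obtain ⟨c, hc, hch⟩ := exists_hasChain_closure_component G.hom hζe
    (d := n) (by rw [hζa]; exact hge)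
  have hc' : ∀ i, c i ∈ closure {ζ} ∧ c i ∈ comp0 G (G.hom x) ∧ G.hom (c i) = G.hom x := by
    intro i
    obtain ⟨⟨h1, h2⟩, h3⟩ := hc i
    change c i ∈ connectedComponentIn (G.hom.base ⁻¹' {G.hom.base (η[G].left (G.hom x))}) _ at h2
    have he : G.hom.base (η[G].left (G.hom x)) = G.hom x := hom_section G (G.hom x)
    rw [he] at h2
    exact ⟨h1, h2, h3.trans he⟩
  have h0 : c 0 = ξ := by
    by_contra hne
    have h : n + 1 ≤ n := hle (n + 1) (Fin.cons ξ c) (fun i => ?_) (fun i => ?_)
    · omega
    · refine Fin.cases ⟨subset_closure rfl, hξs⟩ (fun j => ?_) i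
      exact ⟨(hCs.le (hc' j).2.1).1, (hc' j).2.2⟩
    · refine Fin.cases ?_ (fun j => ?_) i
      · refine ⟨specializes_iff_mem_closure.2 (hCs.le (hc' 0).2.1).1, fun h => hne h.symm⟩
      · simpa using hch j
  refine ⟨ζ, (specializes_iff_mem_closure.2 (h0 ▸ (hc' 0).1)).trans
    (specializes_iff_mem_closure.2 (hCs.le hx).1), hζa, hζmem⟩

/-- where the dimension does not drop, the points of the neutral component lift -/
theorem exists_lift [LocallyOfFiniteType G.hom] {a : S} {x : G.left}
    (hx : x ∈ comp0 G (G.hom x)) (ha : a ⤳ G.hom x)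
    (hdim : topologicalKrullDim ↥(G.hom ⁻¹' {a}) = topologicalKrullDim ↥(G.hom ⁻¹' {G.hom x})) :
    ∃ ζ, ζ ⤳ x ∧ G.hom ζ = a := by
  obtain ⟨ζ, h1, h2, -⟩ := exists_lift_mem G hx ha hdim
  exact ⟨ζ, h1, h2⟩

end Groth.Agent.GrpDim
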