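import Groth.Agent.GrpDim.Neutral
import Groth.Agent.GeomConn.Basic
import Groth.Agent.GrpField.Irreducible
import Groth.Agent.DimField.Limit
import Groth.Prelude.Def_SGA3x
import Groth.Prelude.Def_EGA43

/-!
# Universal openness along the neutral component and the fibre dimension
-/

universe u

open CategoryTheory CategoryTheory.Limits MonoidalCategory CartesianMonoidalCategory MonObj AlgebraicGeometry
open Groth.Agent.Unibranch
open scoped CategoryTheory.Obj

set_option backward.isDefEq.respectTransparency false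
set_option linter.style.haveILetI false

namespace Groth.Agent.GrpDim

variable {S Y : Scheme.{u}} (g : Y ⟶ S) (G : Over S) [GrpObj G]

/-- the neutral section of a base change -/
theorem bc_section (y : Y) :
    pullback.fst G.hom g (η[(Over.pullback g).obj G].left y) = η[G].left (g y) := by
  have h : η[(Over.pullback g).obj G].left ≫ pullback.fst G.hom g = g ≫ η[G].left := by
    rw [Functor.obj.η_def, Over.comp_left, Category.assoc]
    have h2 : ((Over.pullback g).map η[G]).left ≫ pullback.fst G.hom g =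
        pullback.fst (𝟙_ (Over S)).hom g ≫ η[G].left := pullback.lift_fst _ _ _
    rw [h2]
    have h3 : pullback.fst (𝟙_ (Over S)).hom g = pullback.snd (𝟙_ (Over S)).hom g ≫ g := by
      rw [← pullback.condition]; exact (Category.comp_id _).symm
    have h4 : (Functor.LaxMonoidal.ε (Over.pullback g)).left ≫ pullback.snd (𝟙_ (Over S)).hom g = 𝟙 Y :=
      Over.w (Functor.LaxMonoidal.ε (Over.pullback g))
    rw [h3, Category.assoc, reassoc_of% h4]
    exact Category.id_comp _
  exact congrArg (fun k : Y ⟶ G.left => k y) h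

omit [GrpObj G] in
/-- fibre dimensions of a base change -/
theorem bc_dim [LocallyOfFiniteType G.hom] (y : Y) :
    topologicalKrullDim ↥(((Over.pullback g).obj G).hom ⁻¹' {y}) =
      topologicalKrullDim ↥(G.hom ⁻¹' {g y}) := by
  rw [← IsHomeomorph.topologicalKrullDim_eq _ (((Over.pullback g).obj G).hom.fiberHomeo y).isHomeomorph,
    ← IsHomeomorph.topologicalKrullDim_eq _ (G.hom.fiberHomeo (g y)).isHomeomorph]
  exact DimField.dim_fiber_eq_of_isPullback (IsPullback.of_hasPullback G.hom g) y

/-- the neutral component of a fibre is geometrically connected -/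
theorem bc_comp0 {x' : ((Over.pullback g).obj G).left}
    (hx : pullback.fst G.hom g x' ∈ comp0 G (g (((Over.pullback g).obj G).hom x'))) :
    x' ∈ comp0 ((Over.pullback g).obj G) (((Over.pullback g).obj G).hom x') := by
  let G' := (Over.pullback g).obj G
  let y := G'.hom x'
  let s := g y
  let f := G.hom.fiberToSpecResidueField s
  let σ : Spec (S.residueField s) ⟶ G.hom.fiber s :=
    pullback.lift (S.fromSpecResidueField s ≫ η[G].left) (𝟙 _) (by
      rw [Category.assoc, show η[G].left ≫ G.hom = 𝟙 S from Over.w η[G], Category.comp_id,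
        Category.id_comp])
  have hσ : σ ≫ f = 𝟙 _ := pullback.lift_snd _ _ _
  let t : Spec (S.residueField s) := IsLocalRing.closedPoint (S.residueField s)
  let p : G.hom.fiber s := σ t
  have hp : G.hom.fiberι s p = η[G].left s := by
    show (σ ≫ G.hom.fiberι s) t = _
    rw [show σ ≫ G.hom.fiberι s = S.fromSpecResidueField s ≫ η[G].left from pullback.lift_fst _ _ _,
      Scheme.Hom.comp_apply, Scheme.fromSpecResidueField_apply]
    rfl
  letI : Algebra (S.residueField s) (Y.residueField y) := (g.residueFieldMap y).hom.toAlgebra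
  have hD := (GrpField.subsingleton_preimage_section f
    (Spec.map (CommRingCat.ofHom (algebraMap (S.residueField s) (AlgebraicClosure (S.residueField s)))))
    σ hσ t).isPreconnected
  have hconn := GeomConn.isConnected_preimage_of_fibre (k := S.residueField s) (K := Y.residueField y) f
    (C := connectedComponent p) isClosed_connectedComponent isConnected_connectedComponent
    (z := p) mem_connectedComponent hD
    (fun w hw => by
      rw [Set.mem_preimage, Set.mem_singleton_iff] at hw
      rw [Set.mem_preimage]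
      exact hw.symm ▸ mem_connectedComponent) subset_rfl
  have sq := isPullback_fiberToSpecResidueField_of_isPullback (IsPullback.of_hasPullback G.hom g) y
  let m : G'.hom.fiber y ⟶ G.hom.fiber s :=
    pullback.map G'.hom (Y.fromSpecResidueField y) G.hom (S.fromSpecResidueField s) (pullback.fst G.hom g)
      (Spec.map (g.residueFieldMap y)) g pullback.condition.symm (by simp [s])
  have hm : m ≫ G.hom.fiberι s = G'.hom.fiberι y ≫ pullback.fst G.hom g := pullback.lift_fst _ _ _
  have hmapp : ∀ z, G.hom.fiberι s (m z) = pullback.fst G.hom g (G'.hom.fiberι y z) := fun z =>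
    congrArg (fun k : G'.hom.fiber y ⟶ G.left => k z) hm
  let e : G'.hom.fiber y ⟶ pullback f (Spec.map (g.residueFieldMap y)) := sq.isoPullback.hom
  have he : e ≫ pullback.fst f _ = m := sq.isoPullback_hom_fst
  have hC : _root_.IsConnected (m ⁻¹' connectedComponent p) := by
    rw [show (m : G'.hom.fiber y → G.hom.fiber s) ⁻¹' connectedComponent p =
      e.homeomorph ⁻¹' ((pullback.fst f (Spec.map (g.residueFieldMap y))) ⁻¹' connectedComponent p) from
        Set.ext fun z => by rw [← he]; rfl]
    exact (e.homeomorph.isConnected_preimage).2 hconn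
  have hsub : ∀ z, G'.hom.fiberι y z ∈ pullback.fst G.hom g ⁻¹' comp0 G s → m z ∈ connectedComponent p := by
    intro z hz
    rw [Set.mem_preimage, comp0, ← hp, ← fiberι_image_connectedComponent, ← hmapp] at hz
    obtain ⟨w, hw, hwz⟩ := hz
    rwa [(G.hom.fiberι s).isEmbedding.injective hwz] at hw
  obtain ⟨z, hz⟩ : x' ∈ Set.range (G'.hom.fiberι y) := (G'.hom.range_fiberι y).ge rfl
  obtain ⟨q, hq⟩ : η[G'].left y ∈ Set.range (G'.hom.fiberι y) :=
    (G'.hom.range_fiberι y).ge (hom_section G' y)
  have h1 : m z ∈ connectedComponent p := hsub z (by rw [Set.mem_preimage, hz]; exact hx)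
  have h2 : m q ∈ connectedComponent p := hsub q (by
    rw [Set.mem_preimage, hq, bc_section]
    exact mem_connectedComponentIn (hom_section G s))
  show x' ∈ connectedComponentIn (G'.hom.base ⁻¹' {y}) (η[G'].left y)
  rw [← hq, ← fiberι_image_connectedComponent]
  exact ⟨z, hC.isPreconnected.subset_connectedComponent h2 h1, hz⟩

/-- openness from lifting of generisations -/
theorem isOpenAt_of_lifts {X : Scheme.{u}} (f : X ⟶ Y) [LocallyOfFinitePresentation f] {x : X}
    (H : ∀ a, a ⤳ f x → ∃ ζ, ζ ⤳ x ∧ f ζ = a) : EGA43.IsOpenAt f x := by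
  intro U hU
  obtain ⟨U', hU'U, hU'o, hxU'⟩ := mem_nhds_iff.1 hU
  obtain ⟨V, hV, hxV, -⟩ := exists_isAffineOpen_mem_and_subset (show f x ∈ (⊤ : Y.Opens) from trivial)
  obtain ⟨W, hW, hxW, hWle⟩ := exists_isAffineOpen_mem_and_subset
    (show x ∈ f ⁻¹ᵁ V ⊓ ⟨U', hU'o⟩ from ⟨hxV, hxU'⟩)
  have hWV : W ≤ f ⁻¹ᵁ V := fun w hw => (hWle hw).1
  let f' := f.resLE V W hWV
  have : IsAffine (W : Scheme.{u}) := hW
  have : IsAffine (V : Scheme.{u}) := hV
  have : IsAffineHom f' := isAffineHom_of_isAffine f'
  have hc := f'.isLocallyConstructible_image (Topology.IsConstructible.univ (X := W)).isLocallyConstructible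
  have happ : ∀ w, V.ι (f' w) = f (W.ι w) := fun w => by
    rw [← Scheme.Hom.comp_apply, Scheme.Hom.resLE_comp_ι]; rfl
  have hn : f' '' Set.univ ∈ nhds (⟨f x, hxV⟩ : V) := by
    refine mem_nhds_of_isLocallyConstructible hc fun a ha => ?_
    obtain ⟨ζ, hζ, hζa⟩ := H (V.ι a) (ha.map V.ι.continuous)
    refine ⟨⟨ζ, hζ.mem_open W.2 hxW⟩, trivial, V.ι.isOpenEmbedding.injective ?_⟩
    rw [happ]
    exact hζa
  obtain ⟨O, hO, hOo, hxO⟩ := mem_nhds_iff.1 hn
  refine mem_nhds_iff.2 ⟨V.ι '' O, ?_, V.ι.isOpenEmbedding.isOpenMap O hOo, ⟨_, hxO, rfl⟩⟩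
  rintro _ ⟨b, hb, rfl⟩
  obtain ⟨w, -, rfl⟩ := hO hb
  exact ⟨W.ι w, hU'U (hWle w.2).2, (happ w).symm⟩

omit g in
/-- constancy of the dimension gives universal openness along the neutral component -/
theorem isUnivOpenAt_of_dim [LocallyOfFinitePresentation G.hom] {x : G.left}
    (hx : x ∈ comp0 G (G.hom x))
    (hdim : ∀ t, t ⤳ G.hom x →
      topologicalKrullDim ↥(G.hom ⁻¹' {t}) = topologicalKrullDim ↥(G.hom ⁻¹' {G.hom x})) :
    EGA43.IsUnivOpenAt G.hom x := by
  intro Y g x' hx'
  let G' := (Over.pullback g).obj G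
  have : LocallyOfFinitePresentation G'.hom :=
    inferInstanceAs (LocallyOfFinitePresentation (pullback.snd G.hom g))
  have hgy : g (G'.hom x') = G.hom x := by
    show g ((pullback.snd G.hom g) x') = _
    rw [← Scheme.Hom.comp_apply, ← pullback.condition, Scheme.Hom.comp_apply, hx']
  have hx0 := bc_comp0 g G (x' := x') (by rw [hgy, hx']; exact hx)
  show EGA43.IsOpenAt G'.hom x'
  refine isOpenAt_of_lifts G'.hom fun a ha => exists_lift G' hx0 ha ?_
  rw [bc_dim, bc_dim, hdim (g a) (by rw [← hgy]; exact ha.map g.continuous), hgy]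

omit g in
/-- universal openness near the neutral point gives local constancy of the dimension -/
theorem dim_eventually_eq [LocallyOfFinitePresentation G.hom] (s : S) (W : G.left.Opens)
    (heW : η[G].left s ∈ W) (H : ∀ x ∈ comp0 G s, x ∈ W → EGA43.IsUnivOpenAt G.hom x) :
    ∃ U : Set S, U ∈ nhds s ∧ ∀ t ∈ U,
      topologicalKrullDim ↥(G.hom ⁻¹' {t}) = topologicalKrullDim ↥(G.hom ⁻¹' {s}) := by
  obtain ⟨m, hm, O, hsO, hO⟩ := exists_dim_le G s
  obtain ⟨ξ, hξ, hξs, hC, -, hge⟩ := exists_generic G s hm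
  have hξW : ξ ∈ W := (specializes_iff_mem_closure.2
    (hC.le (mem_connectedComponentIn (hom_section G s))).1).mem_open W.2 heW
  have hgeq : ∀ {a : S}, a ⤳ s → (m : WithBot ℕ∞) ≤ topologicalKrullDim ↥(G.hom ⁻¹' {a}) := by
    intro a ha
    obtain ⟨ζ, -, -, hζc⟩ := exists_hasChain_of_isUnivOpenAt G.hom (H ξ hξ hξW)
      (by rw [hξs]; exact ha : a ⤳ G.hom ξ)
    have h := (natCast_le_topologicalKrullDim_inter_iff G.hom (S := Set.univ)
      isClosed_univ.isLocallyClosed a).2 ((hζc m (hξs.symm ▸ hge)).mono (Set.subset_univ _))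
    rwa [IsHomeomorph.topologicalKrullDim_eq _
      (Homeomorph.setCongr (Set.univ_inter (G.hom ⁻¹' {a}))).isHomeomorph] at h
  obtain ⟨V', W', hle', hV', hW', hyV', -, hdim⟩ := exists_model G s
  let f' := G.hom.resLE V' W' hle'
  have : IsAffine (W' : Scheme.{u}) := hW'
  have : IsAffine (V' : Scheme.{u}) := hV'
  have : IsAffineHom f' := isAffineHom_of_isAffine f'
  let L : Set V' := {t | topologicalKrullDim ↥(f'.fiber t) = (m : WithBot ℕ∞)}
  have hL : L ∈ nhds (⟨s, hyV'⟩ : V') := by
    refine mem_nhds_of_isLocallyConstructible (S1333.result f' _) fun t ht => ?_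
    have ht' : V'.ι t ⤳ s := ht.map V'.ι.continuous
    show topologicalKrullDim ↥(f'.fiber t) = _
    rw [hdim]
    exact le_antisymm (hO _ (ht'.mem_open O.2 hsO)) (hgeq ht')
  obtain ⟨Q, hQL, hQo, hsQ⟩ := mem_nhds_iff.1 hL
  refine ⟨V'.ι '' Q, (V'.ι.isOpenEmbedding.isOpenMap Q hQo).mem_nhds ⟨_, hsQ, rfl⟩, ?_⟩
  rintro _ ⟨t, ht, rfl⟩
  rw [hm, ← show topologicalKrullDim ↥(f'.fiber t) = (m : WithBot ℕ∞) from hQL ht, hdim t]
  rfl

omit g in
theorem neutralSet_inter (s : S) : SGA3x.neutralSet G ∩ G.hom.base ⁻¹' {s} = comp0 G s := by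
  ext x
  constructor
  · rintro ⟨hx, hxs⟩
    obtain ⟨p, hp⟩ := Set.mem_iUnion.1 hx
    have h : x ∈ G.hom.base ⁻¹' {(𝟙_ (Over S)).hom.base p} := connectedComponentIn_subset _ _ hp
    have hps : p = s := (show G.hom.base x = p from h).symm.trans hxs
    subst hps
    exact hp
  · intro hx
    exact ⟨Set.mem_iUnion.2 ⟨s, hx⟩, connectedComponentIn_subset _ _ hx⟩

end Groth.Agent.GrpDim
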